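import Groth.Agent.FreeActLib.Algebra
import Mathlib.RingTheory.Jacobson.Ring
import Mathlib.GroupTheory.FiniteAbelian.Basic

/-!
An open of a diagonalisable group which is closed under multiplication: the points of the base over which it is
everything form an open set.
-/

set_option autoImplicit false
set_option backward.isDefEq.respectTransparency false

noncomputable section

universe u

namespace Groth.Agent.EqNhd

open Groth.Agent.FreeAct (DA)

variable {R : Type u} [CommRing R] {M : Type} [AddCommGroup M]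

/-- The point of the spectrum of a character with values in a field. -/
def ptOf {Ω : Type u} [Field Ω] [Algebra R Ω] (χ : Multiplicative M →* Ω) : PrimeSpectrum (DA R M) :=
  ⟨RingHom.ker (MonoidAlgebra.lift R Ω (Multiplicative M) χ).toRingHom, RingHom.ker_isPrime _⟩

theorem exists_ne_zero {Ω : Type u} [Field Ω] [IsAlgClosed Ω] {B : Type u} [CommRing B] [Algebra Ω B] [IsDomain B]
    [Algebra.FiniteType Ω B] (b : B) (hb : b ≠ 0) : ∃ L : B →ₐ[Ω] Ω, L b ≠ 0 := by
  haveI : IsJacobsonRing B := isJacobsonRing_of_finiteType (A := Ω)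
  have h1 : (⊥ : Ideal B).jacobson = ⊥ := IsJacobsonRing.out' _ Ideal.bot_prime.isRadical
  obtain ⟨𝔪, h𝔪, hb𝔪⟩ : ∃ 𝔪 : Ideal B, 𝔪.IsMaximal ∧ b ∉ 𝔪 := by
    by_contra hall
    push Not at hall
    refine hb ((Submodule.mem_bot B).1 ?_)
    rw [← h1, Ideal.jacobson, Ideal.mem_sInf]
    exact fun {I} hI => hall I hI.2
  haveI := h𝔪
  letI := Ideal.Quotient.field 𝔪
  haveI : Module.Finite Ω (B ⧸ 𝔪) := finite_of_finite_type_of_isJacobsonRing Ω (B ⧸ 𝔪)
  have hbij := IsAlgClosed.algebraMap_bijective_of_isIntegral (k := Ω) (K := B ⧸ 𝔪)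
  let e : Ω ≃ₐ[Ω] (B ⧸ 𝔪) := AlgEquiv.ofBijective (Algebra.ofId Ω _) hbij
  refine ⟨e.symm.toAlgHom.comp (Ideal.Quotient.mkₐ Ω 𝔪), fun h0 => hb𝔪 ?_⟩
  have h2 : Ideal.Quotient.mk 𝔪 b = 0 := e.symm.injective (h0.trans (map_zero _).symm)
  exact Ideal.Quotient.eq_zero_iff_mem.1 h2

/-- Two nonzero Laurent polynomials have a common nonvanishing point. -/
theorem exists_char_ne_zero {n : ℕ} {Ω : Type u} [Field Ω] [IsAlgClosed Ω]
    (a b : MonoidAlgebra Ω (Multiplicative (Fin n →₀ ℤ))) (ha : a ≠ 0) (hb : b ≠ 0) :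
    ∃ ζ : Multiplicative (Fin n →₀ ℤ) →* Ω, MonoidAlgebra.lift Ω Ω _ ζ a ≠ 0 ∧
      MonoidAlgebra.lift Ω Ω _ ζ b ≠ 0 := by
  haveI : AddGroup.FG (Fin n →₀ ℤ) := Module.Finite.iff_addGroup_fg.1 inferInstance
  haveI : Monoid.FG (Multiplicative (Fin n →₀ ℤ)) :=
    Group.fg_iff_monoid_fg.1 inferInstance
  obtain ⟨L, hL⟩ := exists_ne_zero (Ω := Ω) (a * b) (mul_ne_zero ha hb)
  obtain ⟨ζ, rfl⟩ := (MonoidAlgebra.lift Ω Ω (Multiplicative (Fin n →₀ ℤ))).surjective L
  rw [map_mul, mul_ne_zero_iff] at hL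
  exact ⟨ζ, hL⟩

/-- The points of the base over which an open closed under multiplication is everything form an open set. -/
theorem exists_nhd_fibre_subset [AddGroup.FG M] (O : Set (PrimeSpectrum (DA R M))) (hO : IsOpen O)
    (hmul : ∀ (Ω : Type u) [Field Ω] [IsAlgClosed Ω] [Algebra R Ω] (χ χ' : Multiplicative M →* Ω),
      ptOf χ ∈ O → ptOf χ' ∈ O → ptOf (χ * χ') ∈ O)
    (P : PrimeSpectrum R) (hP : ∀ Q, PrimeSpectrum.comap (algebraMap R (DA R M)) Q = P → Q ∈ O) :
    ∃ U : Set (PrimeSpectrum R), IsOpen U ∧ P ∈ U ∧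
      ∀ Q, PrimeSpectrum.comap (algebraMap R (DA R M)) Q ∈ U → Q ∈ O := by
  classical
  obtain ⟨n, ι, hι, p, hp, k, ⟨e⟩⟩ := AddCommGroup.equiv_free_prod_directSum_zmod M
  let T := DirectSum ι fun i => ZMod (p i ^ k i)
  let F := Fin n →₀ ℤ
  haveI : ∀ i, NeZero (p i ^ k i) := fun i => ⟨pow_ne_zero _ (hp i).ne_zero⟩
  haveI : Finite T := Finite.of_equiv _ (DirectSum.addEquivProd fun i => ZMod (p i ^ k i)).symm.toEquiv
  let πF : Multiplicative M →* Multiplicative F :=
    AddMonoidHom.toMultiplicative ((AddMonoidHom.fst F T).comp e.toAddMonoidHom)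
  let πT : Multiplicative M →* Multiplicative T :=
    AddMonoidHom.toMultiplicative ((AddMonoidHom.snd F T).comp e.toAddMonoidHom)
  let iF : Multiplicative F →* Multiplicative M :=
    AddMonoidHom.toMultiplicative (e.symm.toAddMonoidHom.comp (AddMonoidHom.inl F T))
  let iT : Multiplicative T →* Multiplicative M :=
    AddMonoidHom.toMultiplicative (e.symm.toAddMonoidHom.comp (AddMonoidHom.inr F T))
  have hsplit : ∀ m, m = iF (πF m) * iT (πT m) := fun m => by
    refine Multiplicative.toAdd.injective ?_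
    show Multiplicative.toAdd m = e.symm ((e (Multiplicative.toAdd m)).1, 0) + e.symm (0, (e (Multiplicative.toAdd m)).2)
    rw [← map_add, Prod.mk_add_mk, add_zero, zero_add, Prod.mk.eta, AddEquiv.symm_apply_apply]
  let c : DA R M →ₐ[R] DA R T := MonoidAlgebra.mapDomainAlgHom R R πT
  haveI : Module.Finite R (DA R T) := Module.Finite.of_basis (MonoidAlgebra.basis (Multiplicative T) R)
  let C : Set (PrimeSpectrum R) :=
    PrimeSpectrum.comap (algebraMap R (DA R T)) '' (PrimeSpectrum.comap c.toRingHom ⁻¹' O)ᶜ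
  have hC : IsClosed C :=
    PrimeSpectrum.isClosedMap_comap_of_isIntegral (algebraMap R (DA R T)) (Algebra.IsIntegral.isIntegral) _
      (hO.preimage (PrimeSpectrum.continuous_comap c.toRingHom)).isClosed_compl
  have hcomm : ∀ z, PrimeSpectrum.comap (algebraMap R (DA R M)) (PrimeSpectrum.comap c.toRingHom z) =
      PrimeSpectrum.comap (algebraMap R (DA R T)) z := fun z => by
    rw [← PrimeSpectrum.comap_comp_apply, show c.toRingHom.comp (algebraMap R (DA R M)) = algebraMap R (DA R T) from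
      c.comp_algebraMap]
  refine ⟨Cᶜ, hC.isOpen_compl, ?_, fun Q hQ => ?_⟩
  · rintro ⟨z, hz, hzP⟩
    exact hz (hP _ ((hcomm z).trans hzP))
  -- a geometric point at `Q`
  let κ := Q.asIdeal.ResidueField
  let Ω : Type u := AlgebraicClosure κ
  let L : DA R M →ₐ[R] Ω := (IsScalarTower.toAlgHom R κ Ω).comp (IsScalarTower.toAlgHom R (DA R M) κ)
  obtain ⟨χ, hχ⟩ := (MonoidAlgebra.lift R Ω (Multiplicative M)).surjective L
  have hQpt : ptOf χ = Q := by
    refine PrimeSpectrum.ext ?_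
    show RingHom.ker (MonoidAlgebra.lift R Ω (Multiplicative M) χ).toRingHom = Q.asIdeal
    rw [hχ]
    show RingHom.ker ((algebraMap κ Ω).comp (algebraMap (DA R M) κ)) = Q.asIdeal
    rw [RingHom.ker_comp_of_injective _ (algebraMap κ Ω).injective]
    exact Ideal.ker_algebraMap_residueField _
  -- the torsion points over it lie in the open
  have htors : ∀ τ : Multiplicative T →* Ω, ptOf (τ.comp πT) ∈ O := by
    intro τ
    let z : PrimeSpectrum (DA R T) := ⟨RingHom.ker (MonoidAlgebra.lift R Ω (Multiplicative T) τ).toRingHom,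
      RingHom.ker_isPrime _⟩
    have hz : PrimeSpectrum.comap c.toRingHom z = ptOf (τ.comp πT) := by
      refine PrimeSpectrum.ext ?_
      show Ideal.comap c.toRingHom (RingHom.ker _) = RingHom.ker _
      rw [RingHom.comap_ker]
      congr 1
      exact congrArg AlgHom.toRingHom (AlgHom.toLinearMap_injective ((MonoidAlgebra.basis (Multiplicative M) R).ext fun m => by simp [c]) :
        (MonoidAlgebra.lift R Ω (Multiplicative T) τ).comp c = MonoidAlgebra.lift R Ω (Multiplicative M) (τ.comp πT))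
    rw [← hz]
    by_contra hn
    refine hQ ⟨z, hn, ?_⟩
    refine PrimeSpectrum.ext ?_
    show Ideal.comap (algebraMap R (DA R T)) (RingHom.ker (MonoidAlgebra.lift R Ω (Multiplicative T) τ).toRingHom) =
      Q.asIdeal.comap (algebraMap R (DA R M))
    have eQ : Q.asIdeal = RingHom.ker (MonoidAlgebra.lift R Ω (Multiplicative M) χ).toRingHom :=
      (congrArg PrimeSpectrum.asIdeal hQpt).symm
    refine (RingHom.comap_ker _ _).trans ((congrArg (RingHom.ker (F := R →+* Ω)) ?_).trans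
      ((RingHom.comap_ker _ _).symm.trans (congrArg (Ideal.comap _) eQ.symm)))
    exact ((MonoidAlgebra.lift R Ω (Multiplicative T) τ).comp_algebraMap).trans
      (MonoidAlgebra.lift R Ω (Multiplicative M) χ).comp_algebraMap.symm
  obtain ⟨K, hK⟩ := (PrimeSpectrum.isClosed_iff_zeroLocus_ideal _).1 hO.isClosed_compl
  have hmem : ∀ ψ : Multiplicative M →* Ω, ptOf ψ ∈ O ↔ ∃ h ∈ K, MonoidAlgebra.lift R Ω (Multiplicative M) ψ h ≠ 0 := by
    intro ψ
    rw [← not_iff_not, ← Set.mem_compl_iff, hK, PrimeSpectrum.mem_zeroLocus]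
    push Not
    rfl
  -- split the geometric point into two points of the open
  obtain ⟨h₁, hh₁, hne₁⟩ := (hmem _).1 (htors 1)
  obtain ⟨h₂, hh₂, hne₂⟩ := (hmem _).1 (htors (χ.comp iT))
  let Θ₁ : DA R M →ₐ[R] MonoidAlgebra Ω (Multiplicative F) :=
    MonoidAlgebra.lift R _ (Multiplicative M) ((MonoidAlgebra.of Ω (Multiplicative F)).comp πF)
  let Θ₂ : DA R M →ₐ[R] MonoidAlgebra Ω (Multiplicative F) :=
    MonoidAlgebra.lift R _ (Multiplicative M) ((MonoidAlgebra.singleOneRingHom (R := Ω) (M := Multiplicative F)).toMonoidHom.comp χ *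
      ((MonoidAlgebra.of Ω (Multiplicative F)).comp (πF)⁻¹))
  let ev : (Multiplicative F →* Ω) → (MonoidAlgebra Ω (Multiplicative F) →ₐ[R] Ω) := fun ζ =>
    (MonoidAlgebra.lift Ω Ω (Multiplicative F) ζ).restrictScalars R
  have hΘ₁ : ∀ ζ h, ev ζ (Θ₁ h) = MonoidAlgebra.lift R Ω (Multiplicative M) (ζ.comp πF) h := fun ζ h =>
    DFunLike.congr_fun (AlgHom.toLinearMap_injective ((MonoidAlgebra.basis (Multiplicative M) R).ext fun m => by simp [ev, Θ₁]) :
      (ev ζ).comp Θ₁ = MonoidAlgebra.lift R Ω (Multiplicative M) (ζ.comp πF)) h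
  have hΘ₂ : ∀ ζ h, ev ζ (Θ₂ h) = MonoidAlgebra.lift R Ω (Multiplicative M) (χ * ζ.comp (πF)⁻¹) h := fun ζ h =>
    DFunLike.congr_fun (AlgHom.toLinearMap_injective ((MonoidAlgebra.basis (Multiplicative M) R).ext fun m => by simp [ev, Θ₂]) :
      (ev ζ).comp Θ₂ = MonoidAlgebra.lift R Ω (Multiplicative M) (χ * ζ.comp (πF)⁻¹)) h
  have h₁0 : Θ₁ h₁ ≠ 0 := fun h0 => hne₁ (by
    have := hΘ₁ 1 h₁
    rw [h0, map_zero, MonoidHom.one_comp] at this
    rw [MonoidHom.one_comp]
    exact this.symm)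
  have hα : ∀ m, χ m * χ.comp iF ((πF)⁻¹ m) = (χ.comp iT).comp πT m := fun m => by
    show χ m * χ (iF (πF m)⁻¹) = χ (iT (πT m))
    rw [← map_mul]
    congr 1
    rw [map_inv]
    conv_lhs => arg 1; rw [hsplit m]
    rw [mul_comm (iF (πF m)), mul_inv_cancel_right]
  have h₂0 : Θ₂ h₂ ≠ 0 := fun h0 => hne₂ (by
    have := hΘ₂ (χ.comp iF) h₂
    rw [h0, map_zero, show χ * (χ.comp iF).comp (πF)⁻¹ = (χ.comp iT).comp πT from MonoidHom.ext hα] at this
    exact this.symm)
  obtain ⟨ζ, hz₁, hz₂⟩ := exists_char_ne_zero _ _ h₁0 h₂0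
  have e : χ = ζ.comp πF * (χ * ζ.comp (πF)⁻¹) := MonoidHom.ext fun m => by
    show χ m = ζ (πF m) * (χ m * ζ (πF m)⁻¹)
    rw [mul_left_comm, ← map_mul, mul_inv_cancel, map_one, mul_one]
  rw [← hQpt, e]
  exact hmul Ω _ _ ((hmem _).2 ⟨h₁, hh₁, by rw [← hΘ₁]; exact hz₁⟩) ((hmem _).2 ⟨h₂, hh₂, by rw [← hΘ₂]; exact hz₂⟩)

end Groth.Agent.EqNhd
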