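import Groth.Agent.EqNhdLib.Piece
import Groth.Agent.EqNhdLib.Mult
import Groth.Agent.DescLib.Open
import Groth.Agent.GrpShear

/-!
Two subgroups of multiplicative type which coincide and are central on a fibre coincide near it.
-/

set_option autoImplicit false
set_option backward.isDefEq.respectTransparency false

noncomputable section

universe u

open CategoryTheory CategoryTheory.Limits MonoidalCategory CartesianMonoidalCategory AlgebraicGeometry CoactBr
open scoped MonObj TensorProduct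

namespace Groth.Agent.EqNhd

open Groth.Agent.FreeAct (DA chr)
open Groth.Agent.MonoLocus (hpt hpt_mul)
open Groth.Agent.MultEq (LE pob pr₁ pr₂)

attribute [local instance] CoactBr.braidedAlgSpecOf

theorem flat_DS (S : Scheme.{u}) (M : Type) [AddCommGroup M] : Flat (Red.DS S M).hom := by
  have h : Flat (Red.diag (ULift.{u} ℤ) M).hom := by
    show Flat (Spec.map _)
    rw [HasRingHomProperty.Spec_iff (P := @Flat)]
    exact RingHom.flat_algebraMap_iff.2 inferInstance
  exact MorphismProperty.pullback_snd _ _ h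

theorem flat_of_isMultTypeFT {S : Scheme.{u}} {H : Over S} [GrpObj H] (hH : SGA3x.IsMultTypeFT H) : Flat H.hom :=
  MultEq.prop_of_isMultTypeFT @Flat (fun T M _ _ => flat_DS T M) hH

theorem flat_fromSpecStalk {X : Scheme.{u}} (x : X) : Flat (X.fromSpecStalk x) := by
  obtain ⟨U, hU, hxU, -⟩ := exists_isAffineOpen_mem_and_subset (U := ⊤) (x := x) trivial
  rw [← hU.fromSpecStalk_eq_fromSpecStalk hxU, IsAffineOpen.fromSpecStalk]
  haveI : Flat (Spec.map (X.presheaf.germ U x hxU)) := by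
    rw [Flat.SpecMap_iff]
    haveI := hU.isLocalization_stalk ⟨x, hxU⟩
    let := TopCat.Presheaf.algebra_section_stalk X.presheaf (⟨x, hxU⟩ : U)
    exact RingHom.flat_algebraMap_iff.mpr
      (IsLocalization.flat (X.presheaf.stalk x) (hU.primeIdealOf ⟨x, hxU⟩).asIdeal.primeCompl)
  infer_instance

variable {S : Scheme.{u}} {G H H' : Over S} [GrpObj G] [GrpObj H] [GrpObj H'] {i : H ⟶ G} {i' : H' ⟶ G}

/-- The largest open over which the first subgroup is in the second is closed under multiplication. -/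
theorem mul_left_mem [IsMonHom i] [IsMonHom i'] [IsImmersion i'.left] [Flat H.hom]
    [LocallyOfFinitePresentation H.hom] (y : (H ⊗ H).left) (hy₁ : (fst H H).left y ∈ maxOpen (pr₁ i i').left)
    (hy₂ : (snd H H).left y ∈ maxOpen (pr₁ i i').left) :
    (μ[H] : H ⊗ H ⟶ H).left y ∈ maxOpen (pr₁ i i').left := by
  haveI := isImmersion_pr₁ i i'
  let f := (pr₁ i i').left
  let W := maxOpen f
  let O₂ : (H ⊗ H).left.Opens := (fst H H).left ⁻¹ᵁ W ⊓ (snd H H).left ⁻¹ᵁ W
  let m : (H ⊗ H).left ⟶ H.left := (μ[H] : H ⊗ H ⟶ H).left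
  haveI hmflat : Flat m := GrpShear.act_prop (GrpShear.mulAction H) @Flat ‹_›
  haveI hmfp : LocallyOfFinitePresentation m :=
    GrpShear.act_prop (GrpShear.mulAction H) @LocallyOfFinitePresentation ‹_›
  have hopen : IsOpenMap m := Scheme.Hom.isOpenMap m
  let O : H.left.Opens := ⟨m '' (O₂ : Set (H ⊗ H).left), hopen _ O₂.isOpen⟩
  have hle : O₂ ≤ m ⁻¹ᵁ O := fun z hz => ⟨z, hz, rfl⟩
  let q : (O₂ : Scheme.{u}) ⟶ (O : Scheme.{u}) := m.resLE O O₂ hle
  haveI : Flat q := by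
    haveI : Flat (q ≫ O.ι) := by rw [Scheme.Hom.resLE_comp_ι]; infer_instance
    exact MorphismProperty.of_postcomp (W' := @IsOpenImmersion) @Flat q O.ι inferInstance inferInstance
  haveI : Surjective q := ⟨by
    rintro ⟨o, z, hz, rfl⟩
    refine ⟨⟨z, hz⟩, O.ι.isOpenEmbedding.injective ?_⟩
    rw [← Scheme.Hom.comp_apply, Scheme.Hom.resLE_comp_ι]
    rfl⟩
  let Y : Over S := Over.mk (O₂.ι ≫ (H ⊗ H).hom)
  let ι₂ : Y ⟶ H ⊗ H := Over.homMk O₂.ι rfl
  let a : Y ⟶ H := ι₂ ≫ fst H H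
  let b : Y ⟶ H := ι₂ ≫ snd H H
  obtain ⟨lW, hlW⟩ := factors_maxOpen f
  have hlift : ∀ c : Y ⟶ H, (∀ z, c.left z ∈ W) → ∃ c' : Y ⟶ H', c ≫ i = c' ≫ i' := by
    intro c hc
    let l : Y.left ⟶ (pob i i').left := IsOpenImmersion.lift W.ι c.left (by
      rintro _ ⟨z, rfl⟩
      rw [Scheme.Opens.range_ι]
      exact hc z) ≫ lW
    have hl : l ≫ (pr₁ i i').left = c.left := by
      show (_ ≫ lW) ≫ f = _
      rw [Category.assoc, hlW, IsOpenImmersion.lift_fac]
    let z : Y ⟶ pob i i' := Over.homMk l ((congrArg (l ≫ ·) (Over.w (pr₁ i i'))).symm.trans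
      ((Category.assoc _ _ _).symm.trans ((congrArg (· ≫ H.hom) hl).trans (Over.w c))))
    refine ⟨z ≫ pr₂ i i', ?_⟩
    rw [Category.assoc, ← MultEq.pr_condition, ← Category.assoc]
    exact congrArg (· ≫ i) (Over.OverMorphism.ext hl.symm)
  obtain ⟨a', ha'⟩ := hlift a (fun z => z.2.1)
  obtain ⟨b', hb'⟩ := hlift b (fun z => z.2.2)
  have hab : (a * b) ≫ i = (a' * b') ≫ i' := by rw [MonObj.mul_comp, MonObj.mul_comp, ha', hb']
  obtain ⟨z, hz, -⟩ := MultEq.exists_lift_pob _ _ hab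
  have hmul : a * b = ι₂ ≫ (μ[H] : H ⊗ H ⟶ H) := by
    rw [Hom.mul_def, ← comp_lift, lift_fst_snd, Category.comp_id]
  have hfac : Factors f O := factors_of_flat_surjective f q z.left (by
    rw [Scheme.Hom.resLE_comp_ι]
    exact (congrArg CommaMorphism.left hz).trans (congrArg CommaMorphism.left hmul))
  exact le_maxOpen f hfac ⟨y, ⟨hy₁, hy₂⟩, rfl⟩

/-- The morphism from a split piece to the group. -/
def q₀ {R : Type u} [CommRing R] {M : Type} [AddCommGroup M] (p : Spec (CommRingCat.of R) ⟶ S)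
    (w : sp R (DA R M) ≅ Red.bc p H) : Spec (CommRingCat.of (DA R M)) ⟶ H.left :=
  w.hom.left ≫ pullback.fst H.hom p

theorem q₀_ptOf {R : Type u} [CommRing R] {M : Type} [AddCommGroup M] (p : Spec (CommRingCat.of R) ⟶ S)
    (w : sp R (DA R M) ≅ Red.bc p H) {Ω : Type u} [Field Ω] [Algebra R Ω] (χ : Multiplicative M →* Ω) :
    (hpt p w χ).left (IsLocalRing.closedPoint Ω) = q₀ p w (ptOf χ) := by
  rw [hpt_left]
  show q₀ p w ((Spec.map (CommRingCat.ofHom (chr (R := R) Ω χ).toRingHom)) (IsLocalRing.closedPoint Ω)) = _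
  refine congrArg _ (PrimeSpectrum.ext ?_)
  show Ideal.comap (chr (R := R) Ω χ).toRingHom (IsLocalRing.maximalIdeal Ω) = (ptOf χ).asIdeal
  rw [IsLocalRing.maximalIdeal_eq_bot]
  rfl

/-- The points of the base over which the first subgroup lies in the largest open form an open set. -/
theorem isOpen_fibre_subset [IsMonHom i] [IsMonHom i'] [IsImmersion i'.left] (hH : SGA3x.IsMultTypeFT H) :
    IsOpen {t : S | ∀ x : H.left, H.hom x = t → x ∈ maxOpen (pr₁ i i').left} := by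
  haveI := MultEq.lfp_of_isMultTypeFT hH
  haveI := flat_of_isMultTypeFT hH
  obtain ⟨S', f, hflat, hsurj, hcov, hloc⟩ := id hH
  haveI := hflat
  haveI := hsurj
  haveI : DescLib.Fpqc f := ⟨DescHom.singleton_mem_fpqc f hcov⟩
  refine DescLib.isOpen_of_isOpen_preimage f (isOpen_iff_forall_mem_open.2 fun z hz => ?_)
  obtain ⟨U₁, hzU₁, M, _, hM, ⟨e₁⟩⟩ := hloc z
  obtain ⟨T, hT, hzT, hTU⟩ := exists_isAffineOpen_mem_and_subset (X := S') (x := z) (U := U₁) hzU₁
  haveI : IsAffine (T : Scheme.{u}) := hT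
  let j : Spec (CommRingCat.of Γ((T : Scheme.{u}), ⊤)) ⟶ (T : Scheme.{u}) := (T : Scheme.{u}).isoSpec.inv
  obtain ⟨w, hw⟩ := MultLift.exists_split_iso e₁ (j ≫ S'.homOfLE hTU) (j ≫ T.ι ≫ f) (by
    rw [Category.assoc, Scheme.homOfLE_ι_assoc])
  haveI := hw
  let R : Type u := Γ((T : Scheme.{u}), ⊤)
  let p : Spec (CommRingCat.of R) ⟶ S := j ≫ T.ι ≫ f
  let W := maxOpen (pr₁ i i').left
  haveI : IsIso w.hom.left := inferInstanceAs (IsIso ((Over.forget _).map w.hom))
  let O : Set (PrimeSpectrum (DA R M)) := q₀ p w ⁻¹' (W : Set H.left)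
  have hiff : ∀ P : PrimeSpectrum R, (∀ x : H.left, H.hom x = p P → x ∈ W) ↔
      ∀ Q, PrimeSpectrum.comap (algebraMap R (DA R M)) Q = P → Q ∈ O := by
    intro P
    constructor
    · intro h Q hQ
      refine h _ ?_
      show H.hom (pullback.fst H.hom p (w.hom.left Q)) = p P
      rw [← Scheme.Hom.comp_apply (pullback.fst H.hom p), pullback.condition, Scheme.Hom.comp_apply]
      refine congrArg (fun b => p b) ?_
      exact (congrArg (fun ψ => (ψ : _ ⟶ Spec (CommRingCat.of R)) Q) (Over.w w.hom)).trans hQ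
    · intro h x hx
      obtain ⟨v, hv₁, hv₂⟩ := Scheme.Pullback.exists_preimage_pullback (f := H.hom) (g := p) x P hx
      let Q : PrimeSpectrum (DA R M) := (inv w.hom.left) v
      have hwQ : w.hom.left Q = v := by
        show (inv w.hom.left ≫ w.hom.left) v = v
        rw [IsIso.inv_hom_id]
        rfl
      have hQ : PrimeSpectrum.comap (algebraMap R (DA R M)) Q = P := by
        show (sp R (DA R M)).hom Q = P
        rw [← Over.w w.hom, Scheme.Hom.comp_apply, hwQ]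
        exact hv₂
      have h1 : pullback.fst H.hom p (w.hom.left Q) ∈ W := h Q hQ
      rw [hwQ, hv₁] at h1
      exact h1
  obtain ⟨t₀, ht₀⟩ := (T : Scheme.{u}).isoSpec.inv.surjective ⟨z, hzT⟩
  have hpz : p t₀ = f z := by
    show f (T.ι (j t₀)) = f z
    exact (congrArg (fun a => f (T.ι a)) ht₀).trans rfl
  obtain ⟨V, hV, ht₀V, hVO⟩ := exists_nhd_fibre_subset (R := R) (M := M) O
    (W.isOpen.preimage (q₀ p w).continuous) (fun Ω _ _ _ χ χ' hχ hχ' => by
      let pt₀ := IsLocalRing.closedPoint Ω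
      have hmul := mul_left_mem (i := i) (i' := i') ((lift (hpt p w χ) (hpt p w χ')).left pt₀)
        (by rw [← Scheme.Hom.comp_apply, ← Over.comp_left, lift_fst, q₀_ptOf]; exact hχ)
        (by rw [← Scheme.Hom.comp_apply, ← Over.comp_left, lift_snd, q₀_ptOf]; exact hχ')
      rw [← Scheme.Hom.comp_apply, ← Over.comp_left, ← Hom.mul_def, ← hpt_mul, q₀_ptOf] at hmul
      exact hmul)
    t₀ ((hiff t₀).1 (hpz.symm ▸ hz))
  have hoi : IsOpenImmersion (j ≫ T.ι) := by
    show IsOpenImmersion ((T : Scheme.{u}).isoSpec.inv ≫ T.ι)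
    infer_instance
  refine ⟨(j ≫ T.ι) '' V, ?_, (j ≫ T.ι).isOpenEmbedding.isOpenMap V hV, ⟨t₀, ht₀V, ?_⟩⟩
  · rintro _ ⟨P, hP, rfl⟩
    exact (hiff P).2 (fun Q hQ => hVO Q (hQ.symm ▸ hP))
  · show T.ι (j t₀) = z
    exact (congrArg T.ι ht₀).trans rfl

/-- Inclusion of the first subgroup in the second near a point where this holds with central fibre. -/
theorem exists_nhd_le [IsMonHom i] [IsMonHom i'] [IsImmersion i'.left]
    (hG : IsLocallyNoetherian S ∨ LocallyOfFinitePresentation G.hom) (hH : SGA3x.IsMultTypeFT H)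
    (hH' : SGA3x.IsMultTypeFT H') (s : S) (hle : LE i i' (S.fromSpecResidueField s))
    (hc : CentLocus.CentAt i (S.fromSpecResidueField s)) :
    ∃ U : S.Opens, s ∈ U ∧ LE i i' U.ι := by
  haveI := isImmersion_pr₁ i i'
  let W := maxOpen (pr₁ i i').left
  let U : S.Opens := ⟨_, isOpen_fibre_subset (i := i) (i' := i') hH⟩
  have hs : s ∈ U := by
    intro x hx
    obtain ⟨S₁, f₁, hflat₁, hsurj₁, hcov₁, hloc₁⟩ := id hH
    obtain ⟨S₂, f₂, hflat₂, hsurj₂, hcov₂, hloc₂⟩ := id hH'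
    haveI := hflat₁
    haveI := hsurj₁
    haveI := hflat₂
    haveI := hsurj₂
    obtain ⟨z, hz⟩ := (pullback.fst f₁ f₂ ≫ f₁).surjective s
    obtain ⟨U₁, hzU₁, M, _, hM, ⟨e₁⟩⟩ := hloc₁ (pullback.fst f₁ f₂ z)
    obtain ⟨U₂, hzU₂, M', _, _, ⟨e₂⟩⟩ := hloc₂ (pullback.snd f₁ f₂ z)
    let T : (pullback f₁ f₂).Opens := pullback.fst f₁ f₂ ⁻¹ᵁ U₁ ⊓ pullback.snd f₁ f₂ ⁻¹ᵁ U₂
    let zT : (T : Scheme.{u}) := ⟨z, hzU₁, hzU₂⟩
    let R : Type u := (T : Scheme.{u}).presheaf.stalk zT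
    let j : Spec (CommRingCat.of R) ⟶ (T : Scheme.{u}) := (T : Scheme.{u}).fromSpecStalk zT
    haveI : Flat j := flat_fromSpecStalk zT
    haveI : IsLocalRing R := inferInstanceAs (IsLocalRing ((T : Scheme.{u}).presheaf.stalk zT))
    let p : Spec (CommRingCat.of R) ⟶ S := j ≫ T.ι ≫ pullback.fst f₁ f₂ ≫ f₁
    haveI : Flat p := by
      show Flat (j ≫ T.ι ≫ pullback.fst f₁ f₂ ≫ f₁)
      infer_instance
    obtain ⟨w, hw⟩ := MultLift.exists_split_iso e₁ (j ≫ (pullback.fst f₁ f₂).resLE U₁ T inf_le_left) p (by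
      rw [Category.assoc, Scheme.Hom.resLE_comp_ι_assoc])
    obtain ⟨w', hw'⟩ := MultLift.exists_split_iso e₂ (j ≫ (pullback.snd f₁ f₂).resLE U₂ T inf_le_right) p (by
      rw [Category.assoc, Scheme.Hom.resLE_comp_ι_assoc, ← pullback.condition])
    haveI := hw
    haveI := hw'
    haveI := hM
    have hps : p (IsLocalRing.closedPoint R) = s := by
      show f₁ (pullback.fst f₁ f₂ (T.ι (j (IsLocalRing.closedPoint R)))) = s
      rw [show j (IsLocalRing.closedPoint R) = zT from Scheme.fromSpecStalk_closedPoint]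
      exact hz
    exact mem_of_piece p hG hH hH' w w' (hps.symm ▸ hle) (hps.symm ▸ hc) x (hx.trans hps.symm)
  refine ⟨U, hs, fun Y q hq y => ?_⟩
  obtain ⟨lW, hlW⟩ := factors_maxOpen (pr₁ i i').left
  have hy : ∀ t, y.left t ∈ W := by
    intro t
    refine (q t).2 (y.left t) ?_
    rw [← Scheme.Hom.comp_apply, Over.w y, ← hq]
    rfl
  let l : Y.left ⟶ (pob i i').left := IsOpenImmersion.lift W.ι y.left (by
    rintro _ ⟨t, rfl⟩
    rw [Scheme.Opens.range_ι]
    exact hy t) ≫ lW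
  have hl : l ≫ (pr₁ i i').left = y.left := by
    show (_ ≫ lW) ≫ _ = _
    rw [Category.assoc, hlW, IsOpenImmersion.lift_fac]
  let z : Y ⟶ pob i i' := Over.homMk l ((congrArg (l ≫ ·) (Over.w (pr₁ i i'))).symm.trans
    ((Category.assoc _ _ _).symm.trans ((congrArg (· ≫ H.hom) hl).trans (Over.w y))))
  refine ⟨z ≫ pr₂ i i', ?_⟩
  rw [Category.assoc, ← MultEq.pr_condition, ← Category.assoc]
  exact congrArg (· ≫ i) (Over.OverMorphism.ext hl)

end Groth.Agent.EqNhd
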