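import Groth.Agent.EqNhdLib.Rigid

/-!
Homomorphisms equal on the closed fibre of a local base are equal near it.
-/

set_option autoImplicit false
set_option backward.isDefEq.respectTransparency false

noncomputable section

universe u

open CategoryTheory CategoryTheory.Limits MonoidalCategory CartesianMonoidalCategory AlgebraicGeometry CoactBr
open scoped MonObj TensorProduct

namespace Groth.Agent.EqNhd

open Groth.Agent.FreeAct (DA)

attribute [local instance] CoactBr.braidedAlgSpecOf

variable {R : Type u} [CommRing R] {N : Type} [AddCommGroup N] {G : Over (Spec (CommRingCat.of R))} [GrpObj G]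

/-- Two families whose equalisers are finitely presented subschemes. -/
def EqFP (a b : PtHom R N G) : Prop :=
  ∀ (A : Type u) [CommRing A] [Algebra R A] (χ : Multiplicative N →* A),
    ∃ (E : Scheme.{u}) (e : E ⟶ Spec (CommRingCat.of A)), IsImmersion e ∧ LocallyOfFinitePresentation e ∧
      ∀ (B : Type u) [CommRing B] [Algebra R B] (L : A →ₐ[R] B),
        pt L ≫ a.ev A χ = pt L ≫ b.ev A χ ↔ ∃ l, l ≫ e = Spec.map (CommRingCat.ofHom L.toRingHom)

theorem EqFP.restrict {a b : PtHom R N G} (h : EqFP a b) {N' : Type} [AddCommGroup N']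
    (φ : Multiplicative N →* Multiplicative N') : EqFP (a.restrict φ) (b.restrict φ) :=
  fun A _ _ χ => h A (χ.comp φ)

/-- A closed immersion into an affine scheme through its ideal. -/
theorem exists_ideal_factor {A : Type u} [CommRing A] {E : Scheme.{u}} (e : E ⟶ Spec (CommRingCat.of A))
    [IsClosedImmersion e] :
    ∃ I : Ideal A, (LocallyOfFinitePresentation e → I.FG) ∧ ∀ (B : Type u) [CommRing B] (g : A →+* B),
      (∃ l, l ≫ e = Spec.map (CommRingCat.ofHom g)) ↔ I ≤ RingHom.ker g := by
  obtain ⟨I, θ, hθ⟩ := IsClosedImmersion.Spec_iff.1 ‹IsClosedImmersion e›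
  have h2 : θ.inv ≫ e = Spec.map (CommRingCat.ofHom (Ideal.Quotient.mk I)) := by rw [Iso.inv_comp_eq, hθ]
  refine ⟨I, fun hfp => ?_, fun B _ g => ⟨?_, fun hg => ?_⟩⟩
  · have h1 : LocallyOfFinitePresentation (Spec.map (CommRingCat.ofHom (Ideal.Quotient.mk I))) := by
      rw [← h2]
      infer_instance
    rw [HasRingHomProperty.Spec_iff (P := @LocallyOfFinitePresentation)] at h1
    haveI : Algebra.FinitePresentation A (A ⧸ I) := RingHom.finitePresentation_algebraMap.1 h1
    have h3 := Algebra.FinitePresentation.ker_fG_of_surjective (R := A) (A := A) (B := A ⧸ I)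
      (Ideal.Quotient.mkₐ A I) Ideal.Quotient.mk_surjective
    convert h3 using 1
    exact (Ideal.Quotient.mkₐ_ker A I).symm
  · rintro ⟨l, hl⟩
    obtain ⟨χ, hχ⟩ := Spec.map_surjective (l ≫ θ.hom)
    have h1 : CommRingCat.ofHom (Ideal.Quotient.mk I) ≫ χ = CommRingCat.ofHom g := by
      refine Spec.map_injective ((Spec.map_comp _ _).trans ?_)
      rw [hχ, Category.assoc, ← h2, Iso.hom_inv_id_assoc, hl]
    intro x hx
    rw [RingHom.mem_ker, ← CommRingCat.hom_ofHom g, ← h1]
    show χ.hom (Ideal.Quotient.mk I x) = 0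
    rw [Ideal.Quotient.eq_zero_iff_mem.2 hx, map_zero]
  · refine ⟨Spec.map (CommRingCat.ofHom (Ideal.Quotient.lift I g hg)) ≫ θ.inv, ?_⟩
    rw [Category.assoc, h2]
    exact (Spec.map_comp _ _).symm

/-- An immersion whose image contains all closed points is a closed immersion. -/
theorem isClosedImmersion_of_maximal {A : Type u} [CommRing A] {E : Scheme.{u}} (e : E ⟶ Spec (CommRingCat.of A))
    [IsImmersion e] (h : ∀ t : PrimeSpectrum A, t.asIdeal.IsMaximal → t ∈ Set.range e) : IsClosedImmersion e := by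
  refine IsClosedImmersion.of_isPreimmersion e ?_
  have hopen : IsOpen (coborder (Set.range e)) := e.isLocallyClosed_range.isOpen_coborder
  have huniv : coborder (Set.range e) = Set.univ := by
    by_contra hne
    obtain ⟨K, hK⟩ := (PrimeSpectrum.isClosed_iff_zeroLocus_ideal _).1 hopen.isClosed_compl
    have hK' : K ≠ ⊤ := fun htop => hne (by
      have : (coborder (Set.range e))ᶜ = (∅ : Set (PrimeSpectrum A)) :=
        hK.trans (by rw [htop]; simp)
      exact Set.compl_empty_iff.1 this)
    obtain ⟨𝔪, h𝔪, hle⟩ := Ideal.exists_le_maximal K hK'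
    have h1 : (⟨𝔪, h𝔪.isPrime⟩ : PrimeSpectrum A) ∈ (coborder (Set.range e))ᶜ := by
      have := (Set.ext_iff.1 hK ⟨𝔪, h𝔪.isPrime⟩).2 (show (⟨𝔪, h𝔪.isPrime⟩ : PrimeSpectrum A) ∈
        PrimeSpectrum.zeroLocus (K : Set A) from hle)
      exact this
    exact h1 (subset_coborder (h _ h𝔪))
  exact coborder_eq_univ_iff.1 huniv

/-- A maximal ideal of a finite algebra lies over the maximal ideal. -/
theorem map_maximalIdeal_le [IsLocalRing R] {A : Type u} [CommRing A] [Algebra R A] [Module.Finite R A]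
    (𝔪 : Ideal A) [𝔪.IsMaximal] : (IsLocalRing.maximalIdeal R).map (algebraMap R A) ≤ 𝔪 := by
  haveI : (𝔪.comap (algebraMap R A)).IsMaximal := Ideal.isMaximal_comap_of_isIntegral_of_isMaximal 𝔪
  rw [Ideal.map_le_iff_le_comap, IsLocalRing.eq_maximalIdeal ‹(𝔪.comap (algebraMap R A)).IsMaximal›]

theorem le_ker_quot {A : Type u} [CommRing A] [Algebra R A] (K : Ideal R) :
    K ≤ RingHom.ker (algebraMap R (A ⧸ K.map (algebraMap R A))) := fun r hr => by
  rw [RingHom.mem_ker, IsScalarTower.algebraMap_apply R A (A ⧸ K.map (algebraMap R A))]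
  exact Ideal.Quotient.eq_zero_iff_mem.2 (Ideal.mem_map_of_mem _ hr)

theorem repr_mem {X : Type} {K : Ideal R} {x : MonoidAlgebra R X} [CommMonoid X]
    (hx : x ∈ K.map (algebraMap R (MonoidAlgebra R X))) (j : X) :
    (MonoidAlgebra.basis X R).repr x j ∈ K := by
  have h1 : x ∈ K • (⊤ : Submodule R (MonoidAlgebra R X)) := by
    rw [Ideal.smul_top_eq_map]
    exact hx
  refine Submodule.smul_induction_on h1 (fun r hr y _ => ?_) (fun y z hy hz => ?_)
  · rw [map_smul, Finsupp.smul_apply]
    exact K.mul_mem_right _ hr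
  · rw [map_add, Finsupp.add_apply]
    exact add_mem hy hz

theorem mem_map_of_repr {X : Type} [CommMonoid X] {K : Ideal R} {x : MonoidAlgebra R X}
    (h : ∀ j, (MonoidAlgebra.basis X R).repr x j ∈ K) : x ∈ K.map (algebraMap R (MonoidAlgebra R X)) := by
  rw [← (MonoidAlgebra.basis X R).linearCombination_repr x, Finsupp.linearCombination_apply]
  refine Submodule.sum_mem _ fun j _ => ?_
  show (MonoidAlgebra.basis X R).repr x j • MonoidAlgebra.basis X R j ∈ _
  rw [Algebra.smul_def]
  exact Ideal.mul_mem_right _ _ (Ideal.mem_map_of_mem _ (h j))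

variable [IsLocalRing R] (V : Chart R G) (a b : PtHom R N G)

include V in
/-- For a finite group of characters equality on the closed fibre gives equality. -/
theorem eq_of_finite [Finite N] (hfp : EqFP a b)
    (hcent : ∀ (A : Type u) [CommRing A] [Algebra R A], IsLocalRing.maximalIdeal R ≤ RingHom.ker (algebraMap R A) →
      ∀ (χ : Multiplicative N →* A) (z : sp R A ⟶ G), a.ev A χ * z = z * a.ev A χ)
    (heq : ∀ (A : Type u) [CommRing A] [Algebra R A], IsLocalRing.maximalIdeal R ≤ RingHom.ker (algebraMap R A) →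
      ∀ χ : Multiplicative N →* A, a.ev A χ = b.ev A χ)
    (B : Type u) [CommRing B] [Algebra R B] (χ : Multiplicative N →* B) : a.ev B χ = b.ev B χ := by
  classical
  let m := IsLocalRing.maximalIdeal R
  let A : Type u := DA R N
  let bA := MonoidAlgebra.basis (Multiplicative N) R
  haveI : Module.Finite R A := Module.Finite.of_basis bA
  let u₁ : Multiplicative N →* A := MonoidAlgebra.of R (Multiplicative N)
  obtain ⟨E, e, himm, hlfp, hiff⟩ := hfp A u₁
  haveI := himm
  have hmax : ∀ t : PrimeSpectrum A, t.asIdeal.IsMaximal → t ∈ Set.range e := by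
    intro t ht
    let L : A →ₐ[R] t.asIdeal.ResidueField := IsScalarTower.toAlgHom R A t.asIdeal.ResidueField
    have hm : m ≤ RingHom.ker (algebraMap R t.asIdeal.ResidueField) := fun r hr => by
      rw [RingHom.mem_ker, IsScalarTower.algebraMap_apply R A, ← RingHom.mem_ker,
        Ideal.ker_algebraMap_residueField]
      exact map_maximalIdeal_le t.asIdeal (Ideal.mem_map_of_mem _ hr)
    obtain ⟨l, hl⟩ := (hiff _ L).1 (by rw [a.ev_comp, b.ev_comp]; exact heq _ hm _)
    refine ⟨l (IsLocalRing.closedPoint t.asIdeal.ResidueField), ?_⟩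
    rw [← Scheme.Hom.comp_apply, hl]
    show PrimeSpectrum.comap (algebraMap A t.asIdeal.ResidueField) _ = t
    refine PrimeSpectrum.ext ?_
    show Ideal.comap (algebraMap A t.asIdeal.ResidueField) (IsLocalRing.maximalIdeal _) = t.asIdeal
    rw [IsLocalRing.maximalIdeal_eq_bot]
    exact Ideal.ker_algebraMap_residueField _
  haveI := isClosedImmersion_of_maximal e hmax
  obtain ⟨I, hIfg, hI⟩ := exists_ideal_factor e
  obtain ⟨gens, hgens⟩ := hIfg hlfp
  have hcrit : ∀ (T : Type u) [CommRing T] [Algebra R T] (L : A →ₐ[R] T),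
      pt L ≫ a.ev A u₁ = pt L ≫ b.ev A u₁ ↔ I ≤ RingHom.ker L.toRingHom := fun T _ _ L =>
    (hiff T L).trans (hI T L.toRingHom)
  have huniv : ∀ (T : Type u) [CommRing T] [Algebra R T] (ψ : Multiplicative N →* T),
      a.ev T ψ = b.ev T ψ ↔ I ≤ RingHom.ker (MonoidAlgebra.lift R T (Multiplicative N) ψ).toRingHom := by
    intro T _ _ ψ
    have e : (MonoidAlgebra.lift R T (Multiplicative N) ψ).toRingHom.toMonoidHom.comp u₁ = ψ :=
      MonoidHom.ext fun j => by
        show MonoidAlgebra.lift R T (Multiplicative N) ψ (MonoidAlgebra.single j (1 : R)) = ψ j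
        simp
    rw [← hcrit, a.ev_comp, b.ev_comp, e]
  let J : Ideal R := Ideal.span (↑(gens.biUnion fun x => (bA.repr x).support.image fun j => bA.repr x j) : Set R)
  have hIJ : ∀ K : Ideal R, I ≤ K.map (algebraMap R A) ↔ J ≤ K := by
    intro K
    rw [← hgens]
    show Submodule.span A _ ≤ _ ↔ Ideal.span _ ≤ _
    rw [Submodule.span_le, Ideal.span_le]
    constructor
    · intro h r hr
      obtain ⟨x, hx, hj⟩ := Finset.mem_biUnion.1 hr
      obtain ⟨j, -, rfl⟩ := Finset.mem_image.1 hj
      exact repr_mem (h hx) j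
    · intro h x hx
      refine mem_map_of_repr fun j => ?_
      by_cases hj : j ∈ (bA.repr x).support
      · exact h (Finset.mem_coe.2 (Finset.mem_biUnion.2 ⟨x, hx, Finset.mem_image.2 ⟨j, hj, rfl⟩⟩))
      · rw [Finsupp.notMem_support_iff.1 hj]
        exact zero_mem _
  have hquot : ∀ K : Ideal R,
      a.ev (A ⧸ K.map (algebraMap R A)) ((Ideal.Quotient.mkₐ R (K.map (algebraMap R A))).toRingHom.toMonoidHom.comp u₁) =
        b.ev (A ⧸ K.map (algebraMap R A))
          ((Ideal.Quotient.mkₐ R (K.map (algebraMap R A))).toRingHom.toMonoidHom.comp u₁) ↔ J ≤ K := by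
    intro K
    rw [← a.ev_comp, ← b.ev_comp, hcrit, ← hIJ]
    rw [show RingHom.ker (Ideal.Quotient.mkₐ R (K.map (algebraMap R A))).toRingHom = K.map (algebraMap R A) from
      Ideal.Quotient.mkₐ_ker R _]
  have hJm : J ≤ m := (hquot m).1 (heq (A ⧸ m.map (algebraMap R A)) (le_ker_quot _) _)
  have hJeq : ∀ (T : Type u) [CommRing T] [Algebra R T], J ≤ RingHom.ker (algebraMap R T) →
      ∀ ψ : Multiplicative N →* T, a.ev T ψ = b.ev T ψ := by
    intro T _ _ hT ψ
    rw [huniv]
    refine ((hIJ J).2 le_rfl).trans (Ideal.map_le_iff_le_comap.2 fun r hr => ?_)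
    show MonoidAlgebra.lift R T (Multiplicative N) ψ (algebraMap R A r) = 0
    rw [AlgHom.commutes]
    exact hT hr
  have hmJ : J ≤ m * J := (hquot (m * J)).1 (eq_of_sq V a b hJm hcent hJeq (A ⧸ (m * J).map (algebraMap R A)) (le_ker_quot _) _)
  have hJbot : J = ⊥ := Submodule.eq_bot_of_le_smul_of_le_jacobson_bot m J ⟨_, rfl⟩ hmJ
    (IsLocalRing.maximalIdeal_le_jacobson _)
  exact hJeq B (hJbot ▸ bot_le) χ

end Groth.Agent.EqNhd
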