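import Groth.Agent.EqNhdLib.Equal
import Mathlib.RingTheory.Filtration

/-!
Equality on the closed fibre spreads to an open containing the closed fibre.
-/

set_option autoImplicit false
set_option backward.isDefEq.respectTransparency false

noncomputable section

universe u

open CategoryTheory CategoryTheory.Limits MonoidalCategory CartesianMonoidalCategory AlgebraicGeometry CoactBr
open scoped MonObj TensorProduct

namespace Groth.Agent.EqNhd

open Groth.Agent.FreeAct (DA)

attribute [local instance] CoactBr.braidedAlgSpecOf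

/-- Finitely generated abelian groups are residually finite. -/
theorem exists_nmul_not_mem {N : Type} [AddCommGroup N] [AddGroup.FG N] (d : N) (hd : d ≠ 0) :
    ∃ n : ℕ, 0 < n ∧ ∀ y : N, n • y ≠ d := by
  haveI : Module.Finite ℤ N := Module.Finite.iff_addGroup_fg.2 ‹_›
  obtain ⟨ℓ, hℓ, hℓ'⟩ : ∃ ℓ : ℕ, ℓ.Prime ∧ ∀ r : ℤ, (r - 1) • d = 0 → ¬ ((ℓ : ℤ) ∣ r) := by
    rcases eq_or_ne (addOrderOf d) 0 with h | h
    · refine ⟨2, Nat.prime_two, fun r hr h2 => ?_⟩
      have : r - 1 = 0 := by
        by_contra hne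
        exact addOrderOf_eq_zero_iff.1 h (isOfFinAddOrder_iff_zsmul_eq_zero.2 ⟨r - 1, hne, hr⟩)
      obtain ⟨c, hc⟩ := h2
      omega
    · have h1 : addOrderOf d ≠ 1 := fun e => hd (AddMonoid.addOrderOf_eq_one_iff.1 e)
      obtain ⟨ℓ, hℓ, hdvd⟩ := Nat.exists_prime_and_dvd h1
      refine ⟨ℓ, hℓ, fun r hr h2 => ?_⟩
      have h3 : (ℓ : ℤ) ∣ r - 1 := (Int.natCast_dvd_natCast.2 hdvd).trans (addOrderOf_dvd_iff_zsmul_eq_zero.2 hr)
      have h4 : (ℓ : ℤ) ∣ 1 := by simpa using dvd_sub h2 h3
      exact hℓ.one_lt.ne' (Nat.dvd_one.1 (by exact_mod_cast h4))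
  by_contra hall
  push Not at hall
  have hmem : d ∈ (⨅ i : ℕ, Ideal.span {(ℓ : ℤ)} ^ i • (⊤ : Submodule ℤ N)) := by
    rw [Submodule.mem_iInf]
    intro i
    obtain ⟨y, hy⟩ := hall (ℓ ^ i) (pow_pos hℓ.pos i)
    rw [← hy, ← natCast_zsmul]
    refine Submodule.smul_mem_smul ?_ trivial
    rw [Ideal.span_singleton_pow, Ideal.mem_span_singleton]
    push_cast
    exact dvd_rfl
  rw [Ideal.mem_iInf_smul_pow_eq_bot_iff] at hmem
  obtain ⟨⟨r, hr⟩, hrd⟩ := hmem
  exact hℓ' r (by rw [sub_smul, one_smul]; exact sub_eq_zero.2 hrd) (Ideal.mem_span_singleton.1 hr)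

/-- A finite set of a finitely generated abelian group injects into a finite quotient. -/
theorem exists_separating {N : Type} [AddCommGroup N] [AddGroup.FG N] (F : Finset N) :
    ∃ n : ℕ, 0 < n ∧ ∀ x ∈ F, ∀ y ∈ F, x ≠ y → ∀ z : N, n • z ≠ x - y := by
  classical
  choose n hn hne using fun d : {d : N // d ≠ 0} => exists_nmul_not_mem d.1 d.2
  let D : Finset {d : N // d ≠ 0} := ((F ×ˢ F).image fun v => v.1 - v.2).subtype _
  refine ⟨∏ d ∈ D, n d, Finset.prod_pos fun d _ => hn d, fun x hx y hy hxy z hz => ?_⟩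
  have hd : (⟨x - y, sub_ne_zero.2 hxy⟩ : {d : N // d ≠ 0}) ∈ D := by
    simp only [D, Finset.mem_subtype, Finset.mem_image, Finset.mem_product]
    exact ⟨(x, y), ⟨hx, hy⟩, rfl⟩
  obtain ⟨c, hc⟩ := Finset.dvd_prod_of_mem n hd
  exact hne ⟨x - y, sub_ne_zero.2 hxy⟩ (c • z) (by
    show n _ • (c • z) = x - y
    rw [← mul_smul, ← hc, hz])

variable {R : Type u} [CommRing R] [IsLocalRing R] {N : Type} [AddCommGroup N] [AddGroup.FG N]
  {G : Over (Spec (CommRingCat.of R))} [GrpObj G] (V : Chart R G) (a b : PtHom R N G)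

include V in
/-- Two homomorphisms equal on the closed fibre, the first central there, agree on a basic open containing the
closed fibre. -/
theorem exists_open_eq (hfp : EqFP a b)
    (hcent : ∀ (A : Type u) [CommRing A] [Algebra R A], IsLocalRing.maximalIdeal R ≤ RingHom.ker (algebraMap R A) →
      ∀ (χ : Multiplicative N →* A) (z : sp R A ⟶ G), a.ev A χ * z = z * a.ev A χ)
    (heq : ∀ (A : Type u) [CommRing A] [Algebra R A], IsLocalRing.maximalIdeal R ≤ RingHom.ker (algebraMap R A) →
      ∀ χ : Multiplicative N →* A, a.ev A χ = b.ev A χ) :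
    ∃ g : DA R N, g - 1 ∈ (IsLocalRing.maximalIdeal R).map (algebraMap R (DA R N)) ∧
      a.ev (Localization.Away g) ((algebraMap (DA R N) (Localization.Away g)).toMonoidHom.comp
          (MonoidAlgebra.of R (Multiplicative N))) =
        b.ev (Localization.Away g) ((algebraMap (DA R N) (Localization.Away g)).toMonoidHom.comp
          (MonoidAlgebra.of R (Multiplicative N))) := by
  classical
  let m := IsLocalRing.maximalIdeal R
  let A : Type u := DA R N
  let mA : Ideal A := m.map (algebraMap R A)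
  let u₁ : Multiplicative N →* A := MonoidAlgebra.of R (Multiplicative N)
  obtain ⟨E, e, himm, -, hiff⟩ := hfp A u₁
  haveI := himm
  have hfib : ∀ t : PrimeSpectrum A, mA ≤ t.asIdeal → t ∈ Set.range e := by
    intro t ht
    let L : A →ₐ[R] t.asIdeal.ResidueField := IsScalarTower.toAlgHom R A t.asIdeal.ResidueField
    have hm : m ≤ RingHom.ker (algebraMap R t.asIdeal.ResidueField) := fun r hr => by
      rw [RingHom.mem_ker, IsScalarTower.algebraMap_apply R A, ← RingHom.mem_ker,
        Ideal.ker_algebraMap_residueField]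
      exact ht (Ideal.mem_map_of_mem _ hr)
    obtain ⟨l, hl⟩ := (hiff _ L).1 (by rw [a.ev_comp, b.ev_comp]; exact heq _ hm _)
    refine ⟨l (IsLocalRing.closedPoint t.asIdeal.ResidueField), ?_⟩
    rw [← Scheme.Hom.comp_apply, hl]
    refine PrimeSpectrum.ext ?_
    show Ideal.comap (algebraMap A t.asIdeal.ResidueField) (IsLocalRing.maximalIdeal _) = t.asIdeal
    rw [IsLocalRing.maximalIdeal_eq_bot]
    exact Ideal.ker_algebraMap_residueField _
  -- a basic open inside the open where the equaliser is closed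
  have hopen : IsOpen (coborder (Set.range e)) := e.isLocallyClosed_range.isOpen_coborder
  obtain ⟨K, hK⟩ := (PrimeSpectrum.isClosed_iff_zeroLocus_ideal _).1 hopen.isClosed_compl
  have htop : K ⊔ mA = ⊤ := by
    by_contra hne
    obtain ⟨𝔪, h𝔪, hle⟩ := Ideal.exists_le_maximal _ hne
    have h1 : (⟨𝔪, h𝔪.isPrime⟩ : PrimeSpectrum A) ∈ (coborder (Set.range e))ᶜ :=
      (Set.ext_iff.1 hK ⟨𝔪, h𝔪.isPrime⟩).2 (show (K : Set A) ⊆ 𝔪 from fun a ha => hle (Ideal.mem_sup_left ha))
    exact h1 (subset_coborder (hfib _ (le_sup_right.trans hle)))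
  obtain ⟨g, hg, z, hz, hgz⟩ := Submodule.mem_sup.1 ((Ideal.eq_top_iff_one _).1 htop)
  have hgA : g - 1 ∈ mA := by
    rw [← hgz, sub_add_cancel_left]
    exact neg_mem hz
  refine ⟨g, hgA, ?_⟩
  let Ag : Type u := Localization.Away g
  let j : Spec (CommRingCat.of Ag) ⟶ Spec (CommRingCat.of A) := Spec.map (CommRingCat.ofHom (algebraMap A Ag))
  let e' := pullback.snd e j
  have hsub : ∀ t, j t ∈ coborder (Set.range e) := fun t => by
    by_contra hn
    have h1 : j t ∈ PrimeSpectrum.zeroLocus (K : Set A) := (Set.ext_iff.1 hK (j t)).1 hn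
    have h2 : algebraMap A Ag g ∈ (PrimeSpectrum.asIdeal t : Ideal Ag) := h1 hg
    exact t.isPrime.ne_top (Ideal.eq_top_of_isUnit_mem _ h2 (IsLocalization.Away.algebraMap_isUnit g))
  haveI : IsImmersion e' := inferInstanceAs (IsImmersion (pullback.snd e j))
  haveI : IsClosedImmersion e' := by
    refine IsClosedImmersion.of_isPreimmersion e' ?_
    rw [Scheme.Pullback.range_snd]
    have h1 : j ⁻¹' Set.range e = (fun t => (⟨j t, hsub t⟩ : coborder (Set.range e))) ⁻¹'
        (Subtype.val ⁻¹' Set.range e) := rfl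
    rw [h1]
    exact isClosed_preimage_val_coborder.preimage (j.continuous.subtype_mk hsub)
  obtain ⟨I, -, hI⟩ := exists_ideal_factor e'
  -- the criterion on algebras over the localisation
  have hcrit : ∀ (T : Type u) [CommRing T] [Algebra R T] (L : Ag →ₐ[R] T),
      a.ev T (L.toRingHom.toMonoidHom.comp ((algebraMap A Ag).toMonoidHom.comp u₁)) =
        b.ev T (L.toRingHom.toMonoidHom.comp ((algebraMap A Ag).toMonoidHom.comp u₁)) ↔
      I ≤ RingHom.ker L.toRingHom := by
    intro T _ _ L
    have h1 : L.toRingHom.toMonoidHom.comp ((algebraMap A Ag).toMonoidHom.comp u₁) =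
        (L.comp (IsScalarTower.toAlgHom R A Ag)).toRingHom.toMonoidHom.comp u₁ := rfl
    rw [h1, ← a.ev_comp, ← b.ev_comp, hiff, ← hI]
    have h2 : Spec.map (CommRingCat.ofHom (L.comp (IsScalarTower.toAlgHom R A Ag)).toRingHom) =
        Spec.map (CommRingCat.ofHom L.toRingHom) ≫ j :=
      (congrArg Spec.map (CommRingCat.ofHom_comp (algebraMap A Ag) L.toRingHom)).trans (Spec.map_comp _ _)
    rw [h2]
    constructor
    · rintro ⟨l, hl⟩
      exact ⟨pullback.lift l (Spec.map (CommRingCat.ofHom L.toRingHom)) hl, pullback.lift_snd _ _ _⟩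
    · rintro ⟨l, hl⟩
      exact ⟨l ≫ pullback.fst _ _, by rw [Category.assoc, pullback.condition, ← hl, Category.assoc]⟩
  -- the ideal vanishes as it vanishes on all finite levels
  have hIbot : I = ⊥ := by
    refine (Submodule.eq_bot_iff I).2 fun c hc => ?_
    obtain ⟨⟨c₀, ⟨_, k, rfl⟩⟩, hck⟩ := IsLocalization.surj (Submonoid.powers g) c
    simp only at hck
    obtain ⟨n, hn, hsep⟩ := exists_separating
      (((MonoidAlgebra.basis (Multiplicative N) R).repr c₀).support.image Multiplicative.toAdd)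
    let S₀ : AddSubgroup N := (nsmulAddMonoidHom n : N →+ N).range
    let Q := N ⧸ S₀
    haveI : Finite Q := by
      haveI : AddGroup.FG Q := AddGroup.fg_of_surjective (f := QuotientAddGroup.mk' S₀) (QuotientAddGroup.mk'_surjective _)
      refine AddCommGroup.finite_of_fg_isAddTorsion Q fun q => ?_
      obtain ⟨y, rfl⟩ := QuotientAddGroup.mk'_surjective S₀ q
      exact isOfFinAddOrder_iff_nsmul_eq_zero.2 ⟨n, hn, (QuotientAddGroup.eq_zero_iff _).2 ⟨y, rfl⟩⟩
    let φ : Multiplicative N →* Multiplicative Q := AddMonoidHom.toMultiplicative (QuotientAddGroup.mk' S₀)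
    let π : A →ₐ[R] DA R Q := MonoidAlgebra.mapDomainAlgHom R R φ
    have hπs : ∀ (x : Multiplicative N) (r : R), π (MonoidAlgebra.single x r) = MonoidAlgebra.single (φ x) r :=
      fun x r => MonoidAlgebra.mapDomain_single
    have hcfs : ∀ (x z : Multiplicative Q) (r : R), cf z (MonoidAlgebra.single x r) = if x = z then r else 0 :=
      fun x z r => by
        rw [show (MonoidAlgebra.single x r : DA R Q) = r • MonoidAlgebra.single x 1 by simp, map_smul, cf_single]
        simp
    haveI : Module.Finite R (DA R Q) := Module.Finite.of_basis (MonoidAlgebra.basis (Multiplicative Q) R)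
    have hunit : IsUnit (π g) := by
      by_contra hnu
      obtain ⟨𝔪, h𝔪, hmem⟩ := exists_max_ideal_of_mem_nonunits hnu
      have h1 : π (g - 1) ∈ 𝔪 := map_maximalIdeal_le 𝔪 (by
        have := Ideal.mem_map_of_mem π.toRingHom hgA
        rwa [Ideal.map_map, show π.toRingHom.comp (algebraMap R A) = algebraMap R (DA R Q) from π.comp_algebraMap]
          at this)
      rw [map_sub, map_one] at h1
      exact h𝔪.ne_top ((Ideal.eq_top_iff_one _).2 (by simpa using sub_mem hmem h1))
    let πg : Ag →ₐ[R] DA R Q := IsLocalization.liftAlgHom (M := Submonoid.powers g) (f := π) (by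
      rintro ⟨_, i, rfl⟩
      rw [map_pow]
      exact hunit.pow i)
    have hπg : ∀ x, πg (algebraMap A Ag x) = π x := fun x => IsLocalization.lift_eq _ x
    have hker : I ≤ RingHom.ker πg.toRingHom := by
      refine (hcrit (DA R Q) πg).1 ?_
      have h2 : πg.toRingHom.toMonoidHom.comp ((algebraMap A Ag).toMonoidHom.comp u₁) =
          (MonoidAlgebra.of R (Multiplicative Q)).comp φ := MonoidHom.ext fun x => by
        show πg (algebraMap A Ag (MonoidAlgebra.single x (1 : R))) = MonoidAlgebra.single (φ x) 1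
        rw [hπg, hπs]
      rw [h2]
      exact eq_of_finite V (a.restrict φ) (b.restrict φ) (hfp.restrict φ) (fun T _ _ hT χ z => hcent T hT _ z)
        (fun T _ _ hT χ => heq T hT _) (DA R Q) (MonoidAlgebra.of R (Multiplicative Q))
    have hc₀ : π c₀ = 0 := by
      rw [← hπg, ← hck, map_mul, show πg c = 0 from hker hc, zero_mul]
    have hc₀0 : c₀ = 0 := by
      refine (MonoidAlgebra.basis (Multiplicative N) R).ext_elem fun x => ?_
      rw [map_zero, Finsupp.zero_apply]
      by_contra hx
      have hco : ∀ y : DA R N, (∀ x' ∈ ((MonoidAlgebra.basis (Multiplicative N) R).repr y).support, φ x' = φ x → x' = x) →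
          cf (φ x) (π y) = (MonoidAlgebra.basis (Multiplicative N) R).repr y x := by
        intro y hy
        conv_lhs => rw [← (MonoidAlgebra.basis (Multiplicative N) R).linearCombination_repr y,
          Finsupp.linearCombination_apply, Finsupp.sum, map_sum, map_sum]
        rw [Finset.sum_eq_single x]
        · simp [hπs, hcfs]
        · intro x' hx' hne
          have : φ x' ≠ φ x := fun h => hne (hy x' hx' h)
          simp [hπs, hcfs, this]
        · intro hnot
          simp [Finsupp.notMem_support_iff.1 hnot]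
      refine hx ((hco c₀ ?_).symm.trans (by rw [hc₀, map_zero]))
      intro x' hx' heq'
      by_contra hne
      have h3 : Multiplicative.toAdd x' - Multiplicative.toAdd x ∈ S₀ :=
        (QuotientAddGroup.eq_iff_sub_mem).1 heq'
      obtain ⟨w, hw⟩ := h3
      exact hsep _ (Finset.mem_image_of_mem _ hx') _ (Finset.mem_image_of_mem _ (Finsupp.mem_support_iff.2 hx))
        (fun e => hne e) w hw
    rw [hc₀0, map_zero] at hck
    exact (IsUnit.mul_left_eq_zero ((IsLocalization.Away.algebraMap_isUnit g).pow k)).1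
      (by rw [← map_pow]; exact hck)
  have h := (hcrit Ag (AlgHom.id R Ag)).2 (by rw [hIbot]; exact bot_le)
  exact h

end Groth.Agent.EqNhd
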