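import Groth.Agent.EqNhdLib.Equal
import Groth.Agent.MultLiftLib.KerBot
import Mathlib.RingTheory.Flat.EquationalCriterion

/-!
The largest open over which an immersion of finite presentation is an isomorphism.
-/

set_option autoImplicit false
set_option backward.isDefEq.respectTransparency false

noncomputable section

universe u

open CategoryTheory CategoryTheory.Limits AlgebraicGeometry

namespace Groth.Agent.EqNhd

variable {K X : Scheme.{u}} (f : K ⟶ X)

/-- The morphism has a section over the open. -/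
def Factors (O : X.Opens) : Prop := ∃ l : (O : Scheme.{u}) ⟶ K, l ≫ f = O.ι

theorem factors_of_flat_surjective [IsImmersion f] {O : X.Opens} {T : Scheme.{u}} (q : T ⟶ (O : Scheme.{u})) [Flat q]
    [Surjective q] (l : T ⟶ K) (hl : l ≫ f = q ≫ O.ι) : Factors f O := by
  let z : pullback f O.ι ⟶ (O : Scheme.{u}) := pullback.snd _ _
  haveI : IsImmersion z := inferInstanceAs (IsImmersion (pullback.snd f O.ι))
  haveI : IsIso z := MultLift.isIso_of_factor z q (pullback.lift l q hl) (pullback.lift_snd _ _ _)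
  refine ⟨inv z ≫ pullback.fst _ _, ?_⟩
  rw [Category.assoc, pullback.condition, show pullback.snd f O.ι = z from rfl, IsIso.inv_hom_id_assoc]

/-- The union of the opens with a section. -/
def maxOpen : X.Opens := sSup {O | Factors f O}

theorem le_maxOpen {O : X.Opens} (h : Factors f O) : O ≤ maxOpen f := le_sSup h

theorem factors_maxOpen [IsImmersion f] : Factors f (maxOpen f) := by
  let I := {O : X.Opens // Factors f O}
  choose l hl using fun i : I => i.2
  let q : (∐ fun i : I => (i.1 : Scheme.{u})) ⟶ (maxOpen f : Scheme.{u}) :=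
    Sigma.desc fun i => X.homOfLE (le_maxOpen f i.2)
  haveI : Flat q := IsZariskiLocalAtSource.sigmaDesc fun i => inferInstance
  haveI : Surjective q := ⟨fun t => by
    obtain ⟨O, hO, htO⟩ := TopologicalSpace.Opens.mem_sSup.1 t.2
    refine ⟨Sigma.ι (fun i : I => (i.1 : Scheme.{u})) ⟨O, hO⟩ ⟨t.1, htO⟩, ?_⟩
    rw [← Scheme.Hom.comp_apply, Sigma.ι_desc]
    exact Subtype.ext (Scheme.homOfLE_apply _ _)⟩
  exact factors_of_flat_surjective f q (Sigma.desc l) (Sigma.hom_ext _ _ fun i => by
    rw [Sigma.ι_desc_assoc, hl, Sigma.ι_desc_assoc, Scheme.homOfLE_ι])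

/-- An element killed by a flat algebra is killed outside the image of its spectrum. -/
theorem exists_mul_eq_zero {A B : Type u} [CommRing A] [CommRing B] [Algebra A B] [Module.Flat A B] (q : Ideal B)
    [q.IsPrime] (i : A) (hi : algebraMap A B i = 0) : ∃ h ∉ q.comap (algebraMap A B), h * i = 0 := by
  obtain ⟨k, a, z, h1, h2⟩ := Module.Flat.isTrivialRelation_of_sum_smul_eq_zero
    (R := A) (M := B) (ι := Fin 1) (f := fun _ => i) (x := fun _ => 1)
    (by simp [Algebra.smul_def, hi])
  by_contra hall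
  push Not at hall
  refine Ideal.IsPrime.ne_top ‹_› ((Ideal.eq_top_iff_one q).2 ?_)
  rw [show (1 : B) = _ from h1 0]
  refine Ideal.sum_mem _ fun j _ => ?_
  rw [Algebra.smul_def]
  refine Ideal.mul_mem_right _ _ ?_
  have := h2 j
  simp only [Finset.univ_unique, Finset.sum_singleton] at this
  by_contra hn
  exact hall (a 0 j) hn (by rw [mul_comm]; exact this)

/-- A point in the image of a flat scheme factoring through the immersion lies in the largest open. -/
theorem mem_maxOpen [IsImmersion f] [LocallyOfFinitePresentation f] {T : Scheme.{u}} (q : T ⟶ X) [Flat q]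
    (l : T ⟶ K) (hl : l ≫ f = q) (t : T) : q t ∈ maxOpen f := by
  let U₀ : X.Opens := ⟨coborder (Set.range f), f.isLocallyClosed_range.isOpen_coborder⟩
  have hx : q t ∈ U₀ := subset_coborder ⟨l t, by rw [← Scheme.Hom.comp_apply, hl]⟩
  obtain ⟨V, hV, hxV, hVU⟩ := exists_isAffineOpen_mem_and_subset (X := X) (x := q t) (U := U₀) hx
  let A : Type u := Γ(X, V)
  let v : Spec (CommRingCat.of A) ⟶ X := hV.fromSpec
  haveI : IsOpenImmersion v := IsAffineOpen.isOpenImmersion_fromSpec hV
  have hrv : Set.range v = (V : Set X) := hV.range_fromSpec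
  let e := pullback.snd f v
  haveI : IsImmersion e := inferInstanceAs (IsImmersion (pullback.snd f v))
  haveI : LocallyOfFinitePresentation e := inferInstanceAs (LocallyOfFinitePresentation (pullback.snd f v))
  haveI : IsClosedImmersion e := by
    refine IsClosedImmersion.of_isPreimmersion e ?_
    rw [Scheme.Pullback.range_snd]
    have hsub : ∀ s, v s ∈ coborder (Set.range f) := fun s => hVU (show v s ∈ (V : Set X) from hrv ▸ Set.mem_range_self s)
    have h1 : v ⁻¹' Set.range f = (fun s => (⟨v s, hsub s⟩ : coborder (Set.range f))) ⁻¹'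
        (Subtype.val ⁻¹' Set.range f) := rfl
    rw [h1]
    exact isClosed_preimage_val_coborder.preimage (v.continuous.subtype_mk hsub)
  obtain ⟨I, hIfg, hI⟩ := exists_ideal_factor e
  obtain ⟨gens, hgens⟩ := hIfg inferInstance
  obtain ⟨W, hW, htW, hWV⟩ := exists_isAffineOpen_mem_and_subset (X := T) (x := t) (U := q ⁻¹ᵁ V) hxV
  let B : Type u := Γ(T, W)
  let φ : Γ(X, V) ⟶ Γ(T, W) := q.appLE V W hWV
  have hsq : Spec.map φ ≫ v = hW.fromSpec ≫ q := IsAffineOpen.SpecMap_appLE_fromSpec q hV hW hWV
  have hflat : φ.hom.Flat := HasRingHomProperty.appLE @Flat q ‹_› ⟨V, hV⟩ ⟨W, hW⟩ hWV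
  have hker : I ≤ RingHom.ker φ.hom := by
    refine (hI B φ.hom).1 ⟨pullback.lift (hW.fromSpec ≫ l) (Spec.map φ) ?_, pullback.lift_snd _ _ _⟩
    rw [Category.assoc, hl, ← hsq]
  obtain ⟨z, hz⟩ : t ∈ Set.range hW.fromSpec := by rw [hW.range_fromSpec]; exact htW
  letI : Algebra A B := φ.hom.toAlgebra
  haveI : Module.Flat A B := hflat
  choose h hh hhi using fun i : {i // i ∈ gens} =>
    exists_mul_eq_zero (A := A) (B := B) (PrimeSpectrum.asIdeal z) i.1 (hker (hgens ▸ Submodule.subset_span i.2))
  let H := ∏ i, h i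
  have hH : H ∉ (PrimeSpectrum.asIdeal z).comap (algebraMap A B) := fun hmem => by
    obtain ⟨i, -, hi⟩ := Ideal.IsPrime.prod_mem_iff.1 hmem
    exact hh i hi
  let j : Spec (CommRingCat.of (Localization.Away H)) ⟶ Spec (CommRingCat.of A) :=
    Spec.map (CommRingCat.ofHom (algebraMap A (Localization.Away H)))
  haveI : IsOpenImmersion j := inferInstanceAs (IsOpenImmersion (Spec.map (CommRingCat.ofHom _)))
  have hIH : I ≤ RingHom.ker (algebraMap A (Localization.Away H)) := by
    rw [← hgens]
    refine Submodule.span_le.2 fun i hi => ?_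
    obtain ⟨c, hc⟩ : h ⟨i, hi⟩ ∣ H := Finset.dvd_prod_of_mem h (Finset.mem_univ _)
    show algebraMap A _ i = 0
    refine (IsLocalization.map_eq_zero_iff (Submonoid.powers H) _ i).2 ⟨⟨H, 1, pow_one H⟩, ?_⟩
    show H * i = 0
    rw [hc, mul_right_comm, hhi ⟨i, hi⟩, zero_mul]
  obtain ⟨l', hl'⟩ := (hI _ _).2 hIH
  let O : X.Opens := (j ≫ v).opensRange
  have hfac : Factors f O := by
    refine ⟨(j ≫ v).isoOpensRange.inv ≫ l' ≫ pullback.fst _ _, ?_⟩
    rw [Category.assoc, Category.assoc, pullback.condition, show pullback.snd f v = e from rfl, reassoc_of% hl']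
    exact Scheme.Hom.isoOpensRange_inv_comp (j ≫ v)
  refine le_maxOpen f hfac ?_
  have h1 : Spec.map φ z ∈ Set.range j := by
    have : Set.range j = (PrimeSpectrum.basicOpen H : Set (PrimeSpectrum A)) :=
      PrimeSpectrum.localization_away_comap_range (Localization.Away H) H
    rw [this]
    exact hH
  obtain ⟨w, hw⟩ := h1
  refine ⟨w, ?_⟩
  show (j ≫ v) w = q t
  exact (congrArg v hw).trans ((congrArg (fun ψ => (ψ : _ ⟶ X) z) hsq).trans (congrArg q hz))

end Groth.Agent.EqNhd
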