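import Groth.Agent.EqNhdLib.Open
import Groth.Agent.EqNhdLib.Spread
import Groth.Agent.MultEqLib.Global
import Groth.Agent.CentLocusLib.Com

/-!
On a flat local split piece the intersection of the two subgroups is a neighbourhood of the closed fibre.
-/

set_option autoImplicit false
set_option backward.isDefEq.respectTransparency false

noncomputable section

universe u

open CategoryTheory CategoryTheory.Limits MonoidalCategory CartesianMonoidalCategory AlgebraicGeometry CoactBr
open scoped MonObj TensorProduct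

namespace Groth.Agent.EqNhd

open Groth.Agent.FreeAct (DA chr)
open Groth.Agent.MonoLocus (hpt hpt_mul homEquiv_hpt kob kin comp_eq_one_iff)
open Groth.Agent.MultEq (LE pob pr₁ pr₂ diffR Diff)

attribute [local instance] CoactBr.braidedAlgSpecOf

theorem isImmersion_eta {S : Scheme.{u}} {G : Over S} [GrpObj G] :
    IsImmersion (η[G] : 𝟙_ (Over S) ⟶ G).left := by
  haveI : IsImmersion ((η[G] : 𝟙_ (Over S) ⟶ G).left ≫ G.hom) := by
    rw [Over.w]
    exact inferInstanceAs (IsImmersion (𝟙 S))
  exact IsImmersion.of_comp _ G.hom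

/-- The kernel is finitely presented, without separatedness. -/
theorem lfp_kin' {S : Scheme.{u}} {G : Over S} [GrpObj G]
    (hG : IsLocallyNoetherian S ∨ LocallyOfFinitePresentation G.hom) {X : Over S} [GrpObj X]
    [LocallyOfFiniteType X.hom] (v : X ⟶ G) : LocallyOfFinitePresentation (kin v).left := by
  show LocallyOfFinitePresentation (pullback.fst v.left (η[G] : 𝟙_ (Over S) ⟶ G).left)
  rcases hG with h | h
  · haveI := h
    haveI : IsLocallyNoetherian X.left := LocallyOfFiniteType.isLocallyNoetherian X.hom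
    haveI := isImmersion_eta (G := G)
    haveI : IsImmersion (pullback.fst v.left (η[G] : 𝟙_ (Over S) ⟶ G).left) := inferInstance
    exact LocallyOfFinitePresentation.iff_locallyOfFiniteType.2 inferInstance
  · haveI := h
    haveI : LocallyOfFinitePresentation (η[G] : 𝟙_ (Over S) ⟶ G).left := by
      haveI : LocallyOfFinitePresentation ((η[G] : 𝟙_ (Over S) ⟶ G).left ≫ G.hom) := by
        rw [Over.w]
        exact inferInstanceAs (LocallyOfFinitePresentation (𝟙 S))
      exact AlgSpLib.lfp_of_comp_lft _ G.hom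
    infer_instance

theorem isImmersion_kin {S : Scheme.{u}} {G : Over S} [GrpObj G] {X : Over S} (v : X ⟶ G) :
    IsImmersion (kin v).left := by
  haveI := isImmersion_eta (G := G)
  exact inferInstanceAs (IsImmersion (pullback.fst v.left (η[G] : 𝟙_ (Over S) ⟶ G).left))

/-- A chart at the unit over a local ring. -/
theorem nonempty_chart {R : Type u} [CommRing R] [IsLocalRing R] (G : Over (Spec (CommRingCat.of R))) [GrpObj G] :
    Nonempty (Chart R G) := by
  let e : sp R R ⟶ G := 1
  let c : G.left := e.left (IsLocalRing.closedPoint R)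
  obtain ⟨V, hV, hcV, -⟩ := exists_isAffineOpen_mem_and_subset (X := G.left) (x := c) (U := ⊤) trivial
  let B : Type u := Γ(G.left, V)
  let v : Spec (CommRingCat.of B) ⟶ G.left := hV.fromSpec
  obtain ⟨φ, hφ⟩ := Spec.map_surjective (v ≫ G.hom)
  letI : Algebra R B := φ.hom.toAlgebra
  let j : sp R B ⟶ G := Over.homMk v (by
    show v ≫ G.hom = Spec.map (CommRingCat.ofHom φ.hom)
    rw [CommRingCat.ofHom_hom]
    exact hφ.symm)
  haveI : IsOpenImmersion j.left := IsAffineOpen.isOpenImmersion_fromSpec hV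
  have hsub : Set.range e.left ⊆ Set.range j.left := by
    rintro _ ⟨t, rfl⟩
    show e.left t ∈ Set.range hV.fromSpec
    rw [hV.range_fromSpec]
    have hsp : t ⤳ IsLocalRing.closedPoint R :=
      (PrimeSpectrum.le_iff_specializes (t : PrimeSpectrum R) _).1
        (IsLocalRing.le_maximalIdeal (t : PrimeSpectrum R).isPrime.ne_top)
    exact (hsp.map e.left.continuous).mem_open V.isOpen hcV
  let l := IsOpenImmersion.lift j.left e.left hsub
  have hl : l ≫ j.left = e.left := IsOpenImmersion.lift_fac _ _ _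
  let y : sp R R ⟶ sp R B := Over.homMk l (by rw [← Over.w j, ← Category.assoc, hl, Over.w])
  obtain ⟨L, hL⟩ := DiagRep.exists_pt y
  exact ⟨{ ring := B, hom := j, isOpen := inferInstance, one := L,
           pt_one := by rw [← hL]; exact Over.OverMorphism.ext hl }⟩

variable {S : Scheme.{u}} {G H H' : Over S} [GrpObj G] [GrpObj H] [GrpObj H'] {R : Type u} [CommRing R]
  {M : Type} [AddCommGroup M] (p : Spec (CommRingCat.of R) ⟶ S)

/-- The points of a subgroup on a split piece. -/
def ptsHom (w : sp R (DA R M) ≅ Red.bc p H) [IsMonHom w.hom] (i : H ⟶ G) [IsMonHom i] :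
    PtHom R M (Red.bc p G) where
  ev A _ _ χ := (Over.mapPullbackAdj p).homEquiv (sp R A) G (hpt p w χ ≫ i)
  ev_mul A _ _ χ χ' := by rw [hpt_mul, MultLift.hom_mul i, AlgGrp.Action.homEquiv_mul]
  ev_comp L χ := by
    rw [← Adjunction.homEquiv_naturality_left, ← Category.assoc, MultEq.hpt_natural]

theorem hpt_left (w : sp R (DA R M) ≅ Red.bc p H) {A : Type u} [CommRing A] [Algebra R A]
    (χ : Multiplicative M →* A) :
    (hpt p w χ).left = Spec.map (CommRingCat.ofHom (chr (R := R) A χ).toRingHom) ≫ w.hom.left ≫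
      pullback.fst H.hom p := by
  have h3 : (((Over.mapPullbackAdj p).homEquiv (sp R (DA R M)) H).symm w.hom).left =
      w.hom.left ≫ pullback.fst H.hom p := by
    rw [Adjunction.homEquiv_counit]
    simp
  rw [hpt, Over.comp_left, h3]
  rfl

theorem eqFP_ptsHom {M' : Type} [AddCommGroup M'] (w : sp R (DA R M) ≅ Red.bc p H) [IsMonHom w.hom]
    (w' : sp R (DA R M') ≅ Red.bc p H') [IsMonHom w'.hom] {i : H ⟶ G} [IsMonHom i] {i' : H' ⟶ G} [IsMonHom i']
    (hfp : LocallyOfFinitePresentation (kin (diffR i i').hom).left)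
    (φ : Multiplicative M' →* Multiplicative M) :
    EqFP (ptsHom p w i) ((ptsHom p w' i').restrict φ) := by
  intro A _ _ χ
  haveI := hfp
  haveI := isImmersion_kin (diffR i i').hom
  let h := hpt p w χ
  let h' := hpt p w' (χ.comp φ)
  let P : (Over.map p).obj (sp R A) ⟶ H ⊗ H' := lift h h'
  refine ⟨pullback (kin (diffR i i').hom).left P.left, pullback.snd _ _, inferInstance, inferInstance,
    fun B _ _ L => ?_⟩
  let adj := Over.mapPullbackAdj p
  let mL := (Over.map p).map (pt L)
  have h1 : pt L ≫ (ptsHom p w i).ev A χ = pt L ≫ ((ptsHom p w' i').restrict φ).ev A χ ↔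
      (mL ≫ P) ≫ (diffR i i').hom = 1 := by
    show pt L ≫ adj.homEquiv _ G (h ≫ i) = pt L ≫ adj.homEquiv _ G (h' ≫ i') ↔ _
    rw [← adj.homEquiv_naturality_left, ← adj.homEquiv_naturality_left, (adj.homEquiv _ G).injective.eq_iff,
      comp_lift, (diffR i i').eq_one_iff, Category.assoc, Category.assoc]
  rw [h1, comp_eq_one_iff]
  constructor
  · rintro ⟨y, hy⟩
    exact ⟨pullback.lift y.left (Spec.map (CommRingCat.ofHom L.toRingHom)) (congrArg CommaMorphism.left hy),
      pullback.lift_snd _ _ _⟩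
  · rintro ⟨l, hl⟩
    have hk : (l ≫ pullback.fst _ _) ≫ (kin (diffR i i').hom).left = (mL ≫ P).left := by
      rw [Category.assoc, pullback.condition, reassoc_of% hl]
      rfl
    refine ⟨Over.homMk (l ≫ pullback.fst _ _) ?_, Over.OverMorphism.ext hk⟩
    exact ((congrArg (_ ≫ ·) (Over.w (kin (diffR i i').hom))).symm.trans (Category.assoc _ _ _).symm).trans
      ((congrArg (· ≫ (H ⊗ H').hom) hk).trans (Over.w _))

theorem isImmersion_pr₁ (i : H ⟶ G) (i' : H' ⟶ G) [IsImmersion i'.left] : IsImmersion (pr₁ i i').left :=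
  inferInstanceAs (IsImmersion (pullback.fst i.left i'.left))

theorem lfp_pr₁ (hG : IsLocallyNoetherian S ∨ LocallyOfFinitePresentation G.hom) (i : H ⟶ G) (i' : H' ⟶ G)
    [IsImmersion i'.left] [LocallyOfFiniteType H.hom] [LocallyOfFinitePresentation H'.hom] :
    LocallyOfFinitePresentation (pr₁ i i').left := by
  haveI := isImmersion_pr₁ i i'
  rcases hG with h | h
  · haveI := h
    haveI : IsLocallyNoetherian H.left := LocallyOfFiniteType.isLocallyNoetherian H.hom
    exact LocallyOfFinitePresentation.iff_locallyOfFiniteType.2 inferInstance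
  · haveI := h
    haveI : LocallyOfFinitePresentation i'.left := by
      haveI : LocallyOfFinitePresentation (i'.left ≫ G.hom) := by rw [Over.w]; infer_instance
      exact AlgSpLib.lfp_of_comp_lft _ G.hom
    exact inferInstanceAs (LocallyOfFinitePresentation (pullback.fst i.left i'.left))

/-- The closed fibre of a flat local split piece lies in the largest open over which the first subgroup is in the
second. -/
theorem mem_of_piece [IsLocalRing R] [AddGroup.FG M] {M' : Type} [AddCommGroup M'] [Flat p]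
    (hG : IsLocallyNoetherian S ∨ LocallyOfFinitePresentation G.hom) (hH : SGA3x.IsMultTypeFT H)
    (hH' : SGA3x.IsMultTypeFT H') {i : H ⟶ G} [IsMonHom i] {i' : H' ⟶ G} [IsMonHom i'] [IsImmersion i'.left]
    (w : sp R (DA R M) ≅ Red.bc p H) [IsMonHom w.hom] (w' : sp R (DA R M') ≅ Red.bc p H') [IsMonHom w'.hom]
    (hle : LE i i' (S.fromSpecResidueField (p (IsLocalRing.closedPoint R))))
    (hc : CentLocus.CentAt i (S.fromSpecResidueField (p (IsLocalRing.closedPoint R))))
    (x : H.left) (hx : H.hom x = p (IsLocalRing.closedPoint R)) :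
    x ∈ maxOpen (pr₁ i i').left := by
  haveI := MultEq.lfp_of_isMultTypeFT hH
  haveI := MultEq.lfp_of_isMultTypeFT hH'
  haveI : Mono i' := Over.mono_of_mono_left i'
  let m := IsLocalRing.maximalIdeal R
  let k := IsLocalRing.ResidueField R
  let ψ : R →+* k := IsLocalRing.residue R
  let κ := Spec.map (CommRingCat.ofHom ψ) ≫ p
  have hpt0 : κ (IsLocalRing.closedPoint k) = p (IsLocalRing.closedPoint R) := by
    refine congrArg (fun b => p b) (PrimeSpectrum.ext ?_)
    show Ideal.comap ψ (IsLocalRing.maximalIdeal k) = m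
    rw [IsLocalRing.maximalIdeal_eq_bot]
    exact IsLocalRing.ker_residue
  have hleκ : LE i i' κ := (MultEq.le_field_iff κ).2 (hpt0.symm ▸ hle)
  have hcκ : CentLocus.CentAt i κ := (TrivLocus.triv_field_iff (u := CentLocus.com i) κ).2 (hpt0.symm ▸ hc)
  obtain ⟨φ, hφ⟩ := MultEq.exists_charMap p w w' ψ hleκ
  obtain ⟨V⟩ := nonempty_chart (Red.bc p G)
  let a := ptsHom p w i
  let b := (ptsHom p w' i').restrict φ
  have hres : ∀ (A : Type u) [CommRing A] [Algebra R A], m ≤ RingHom.ker (algebraMap R A) →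
      ∃ g : k →+* A, g.comp ψ = algebraMap R A := fun A _ _ hA =>
    ⟨Ideal.Quotient.lift m (algebraMap R A) hA, Ideal.Quotient.lift_comp_mk _ _ _⟩
  have heq : ∀ (A : Type u) [CommRing A] [Algebra R A], m ≤ RingHom.ker (algebraMap R A) →
      ∀ χ : Multiplicative M →* A, a.ev A χ = b.ev A χ := by
    intro A _ _ hA χ
    obtain ⟨g, hg⟩ := hres A hA
    exact congrArg ((Over.mapPullbackAdj p).homEquiv (sp R A) G) (hφ A g hg χ).symm
  have hcent : ∀ (A : Type u) [CommRing A] [Algebra R A], m ≤ RingHom.ker (algebraMap R A) →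
      ∀ (χ : Multiplicative M →* A) (z : sp R A ⟶ Red.bc p G), a.ev A χ * z = z * a.ev A χ := by
    intro A _ _ hA χ z
    obtain ⟨g, hg⟩ := hres A hA
    obtain ⟨z₀, rfl⟩ := ((Over.mapPullbackAdj p).homEquiv (sp R A) G).surjective z
    show (Over.mapPullbackAdj p).homEquiv (sp R A) G _ * _ = _ * (Over.mapPullbackAdj p).homEquiv (sp R A) G _
    rw [← AlgGrp.Action.homEquiv_mul, ← AlgGrp.Action.homEquiv_mul]
    refine congrArg _ ((CentLocus.centAt_iff i κ).1 hcκ _ (Spec.map (CommRingCat.ofHom g)) ?_ z₀ (hpt p w χ))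
    show _ = Spec.map (CommRingCat.ofHom (algebraMap R A)) ≫ p
    rw [← hg, CommRingCat.ofHom_comp, Spec.map_comp, Category.assoc]
  haveI : LocallyOfFiniteType (H ⊗ H').hom := MultEq.lft_tensor
  obtain ⟨g, hg, hgeq⟩ := exists_open_eq V a b (eqFP_ptsHom p w w' (lfp_kin' hG _) φ) hcent heq
  let Dg : Type u := Localization.Away g
  let u₁ : Multiplicative M →* DA R M := MonoidAlgebra.of R (Multiplicative M)
  let ug : Multiplicative M →* Dg := (algebraMap (DA R M) Dg).toMonoidHom.comp u₁
  have hh : hpt p w ug ≫ i = hpt p w' (ug.comp φ) ≫ i' :=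
    ((Over.mapPullbackAdj p).homEquiv _ G).injective hgeq
  obtain ⟨z, hz, -⟩ := MultEq.exists_lift_pob _ _ hh
  have hchr : (chr (R := R) Dg ug).toRingHom = algebraMap (DA R M) Dg := by
    have : chr (R := R) Dg ug = IsScalarTower.toAlgHom R (DA R M) Dg :=
      AlgHom.toLinearMap_injective ((MonoidAlgebra.basis (Multiplicative M) R).ext fun m => by simp [chr, ug, u₁])
    rw [this]
    rfl
  let q : Spec (CommRingCat.of Dg) ⟶ H.left :=
    Spec.map (CommRingCat.ofHom (algebraMap (DA R M) Dg)) ≫ w.hom.left ≫ pullback.fst H.hom p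
  have hqeq : (hpt p w ug).left = q := by rw [hpt_left, hchr]
  haveI : IsIso w.hom.left := inferInstanceAs (IsIso ((Over.forget _).map w.hom))
  haveI : Flat q := inferInstance
  obtain ⟨v, hv₁, hv₂⟩ := Scheme.Pullback.exists_preimage_pullback (f := H.hom) (g := p) x
    (IsLocalRing.closedPoint R) hx
  let Q : PrimeSpectrum (DA R M) := (inv w.hom.left) v
  have hwQ : w.hom.left Q = v := by
    show (inv w.hom.left ≫ w.hom.left) v = v
    rw [IsIso.inv_hom_id]
    rfl
  have hQm : m.map (algebraMap R (DA R M)) ≤ Q.asIdeal := by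
    rw [Ideal.map_le_iff_le_comap]
    have h1 : (sp R (DA R M)).hom Q = IsLocalRing.closedPoint R := by
      rw [← Over.w w.hom, Scheme.Hom.comp_apply, hwQ]
      exact hv₂
    exact (congrArg PrimeSpectrum.asIdeal h1).ge
  have hgQ : g ∉ Q.asIdeal := fun hmem => Q.isPrime.ne_top ((Ideal.eq_top_iff_one _).2 (by
    simpa using sub_mem hmem (hQm hg)))
  obtain ⟨t, ht⟩ : Q ∈ Set.range (PrimeSpectrum.comap (algebraMap (DA R M) Dg)) := by
    rw [PrimeSpectrum.localization_away_comap_range Dg g]
    exact hgQ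
  haveI := isImmersion_pr₁ i i'
  haveI := lfp_pr₁ hG i i'
  have := mem_maxOpen (pr₁ i i').left q z.left ((congrArg CommaMorphism.left hz).trans hqeq) t
  have hqt : q t = x := by
    show (Spec.map (CommRingCat.ofHom (algebraMap (DA R M) Dg)) ≫ w.hom.left ≫ pullback.fst H.hom p) t = x
    rw [Scheme.Hom.comp_apply, Scheme.Hom.comp_apply]
    exact ((congrArg (fun b => pullback.fst H.hom p (w.hom.left b)) ht).trans (congrArg _ hwQ)).trans hv₁
  exact hqt ▸ this

end Groth.Agent.EqNhd
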