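import Groth.Agent.FreeActLib.Algebra
import Groth.Agent.DiagRepLib.Scheme

/-!
Points congruent to the unit modulo an ideal killed by another one, seen through a chart at the unit.
-/

set_option autoImplicit false
set_option backward.isDefEq.respectTransparency false

noncomputable section

universe u

open CategoryTheory CategoryTheory.Limits MonoidalCategory CartesianMonoidalCategory AlgebraicGeometry CoactBr
open scoped MonObj TensorProduct

namespace Groth.Agent.EqNhd

attribute [local instance] CoactBr.braidedAlgSpecOf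

variable {R : Type u} [CommRing R] {G : Over (Spec (CommRingCat.of R))} [GrpObj G]

/-- An affine open subscheme through which the unit factors. -/
structure Chart (R : Type u) [CommRing R] (G : Over (Spec (CommRingCat.of R))) [GrpObj G] where
  /-- the coordinate ring -/
  ring : Type u
  [cr : CommRing ring]
  [alg : Algebra R ring]
  /-- the inclusion -/
  hom : sp R ring ⟶ G
  isOpen : IsOpenImmersion hom.left
  /-- the unit -/
  one : ring →ₐ[R] R
  pt_one : pt one ≫ hom = 1

attribute [instance] Chart.cr Chart.alg Chart.isOpen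

namespace Chart

variable (V : Chart R G)

/-- The unit with values in an algebra. -/
def eps (A : Type u) [CommRing A] [Algebra R A] : V.ring →ₐ[R] A := (Algebra.ofId R A).comp V.one

theorem pt_eps (A : Type u) [CommRing A] [Algebra R A] : pt (V.eps A) ≫ V.hom = 1 := by
  rw [eps, pt_comp, Category.assoc, V.pt_one, MonObj.comp_one]

theorem comp_eps {A A' : Type u} [CommRing A] [Algebra R A] [CommRing A'] [Algebra R A'] (π : A →ₐ[R] A') :
    π.comp (V.eps A) = V.eps A' := AlgHom.ext fun b => π.commutes _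

theorem mono : Mono V.hom := Over.mono_of_mono_left _

theorem hom_injective {A : Type u} [CommRing A] [Algebra R A] {L L' : V.ring →ₐ[R] A}
    (h : pt L ≫ V.hom = pt L' ≫ V.hom) : L = L' := by
  haveI := V.mono
  exact pt_injective ((cancel_mono V.hom).1 h)

/-- A point which is the unit modulo a nilpotent ideal lies in the chart. -/
theorem exists_factor {A A' : Type u} [CommRing A] [Algebra R A] [CommRing A'] [Algebra R A'] (π : A →ₐ[R] A')
    (hπ : Function.Surjective π) (hnil : IsNilpotent (RingHom.ker π.toRingHom)) (x : sp R A ⟶ G)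
    (hx : pt π ≫ x = 1) : ∃ L : V.ring →ₐ[R] A, pt L ≫ V.hom = x ∧ π.comp L = V.eps A' := by
  have hsub : Set.range x.left ⊆ Set.range V.hom.left := by
    rintro _ ⟨t, rfl⟩
    obtain ⟨n, hn⟩ := hnil
    have ht : t ∈ Set.range (PrimeSpectrum.comap π.toRingHom) := by
      refine (Set.ext_iff.1 (range_comap_of_surjective _ π.toRingHom hπ) t).2
        ((PrimeSpectrum.mem_zeroLocus _ _).2 ?_)
      intro a ha
      have : a ^ n = 0 := by
        have := Ideal.pow_mem_pow (show a ∈ RingHom.ker π.toRingHom from ha) n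
        rwa [hn] at this
      exact t.isPrime.mem_of_pow_mem n (this ▸ zero_mem _)
    obtain ⟨t', ht'⟩ := ht
    have h1 : x.left t = (pt π ≫ x).left t' := by
      rw [← ht']
      rfl
    rw [h1, hx, ← V.pt_eps A']
    exact ⟨_, rfl⟩
  let l := IsOpenImmersion.lift V.hom.left x.left hsub
  have hl : l ≫ V.hom.left = x.left := IsOpenImmersion.lift_fac _ _ _
  let y : sp R A ⟶ sp R V.ring := Over.homMk l (by
    show l ≫ (sp R V.ring).hom = _
    rw [← Over.w V.hom, ← Category.assoc, hl, Over.w])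
  obtain ⟨L, hL⟩ := DiagRep.exists_pt y
  have hLx : pt L ≫ V.hom = x := by
    rw [← hL]
    exact Over.OverMorphism.ext hl
  refine ⟨L, hLx, V.hom_injective ?_⟩
  rw [pt_comp, Category.assoc, hLx, hx, V.pt_eps]

end Chart

variable {A : Type u} [CommRing A] [Algebra R A] (J : Ideal A)

/-- Pairs congruent modulo the ideal. -/
def pairs : Subalgebra R (A × A) where
  carrier := {v | v.1 - v.2 ∈ J}
  mul_mem' {v w} hv hw := by
    have : (v * w).1 - (v * w).2 = (v.1 - v.2) * w.1 + v.2 * (w.1 - w.2) := by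
      simp only [Prod.fst_mul, Prod.snd_mul]; ring
    show _ ∈ J
    rw [this]
    exact add_mem (J.mul_mem_right _ hv) (J.mul_mem_left _ hw)
  add_mem' {v w} hv hw := by
    have : (v + w).1 - (v + w).2 = (v.1 - v.2) + (w.1 - w.2) := by
      simp only [Prod.fst_add, Prod.snd_add]; ring
    show _ ∈ J
    rw [this]
    exact add_mem hv hw
  algebraMap_mem' r := by simp

/-- Triples congruent modulo the ideal. -/
def triples : Subalgebra R (A × A × A) where
  carrier := {v | v.1 - v.2.1 ∈ J ∧ v.1 - v.2.2 ∈ J}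
  mul_mem' {v w} hv hw := by
    have e₁ : (v * w).1 - (v * w).2.1 = (v.1 - v.2.1) * w.1 + v.2.1 * (w.1 - w.2.1) := by
      simp only [Prod.fst_mul, Prod.snd_mul]; ring
    have e₂ : (v * w).1 - (v * w).2.2 = (v.1 - v.2.2) * w.1 + v.2.2 * (w.1 - w.2.2) := by
      simp only [Prod.fst_mul, Prod.snd_mul]; ring
    refine ⟨?_, ?_⟩
    · rw [e₁]; exact add_mem (J.mul_mem_right _ hv.1) (J.mul_mem_left _ hw.1)
    · rw [e₂]; exact add_mem (J.mul_mem_right _ hv.2) (J.mul_mem_left _ hw.2)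
  add_mem' {v w} hv hw := by
    have e₁ : (v + w).1 - (v + w).2.1 = (v.1 - v.2.1) + (w.1 - w.2.1) := by
      simp only [Prod.fst_add, Prod.snd_add]; ring
    have e₂ : (v + w).1 - (v + w).2.2 = (v.1 - v.2.2) + (w.1 - w.2.2) := by
      simp only [Prod.fst_add, Prod.snd_add]; ring
    exact ⟨e₁ ▸ add_mem hv.1 hw.1, e₂ ▸ add_mem hv.2 hw.2⟩
  algebraMap_mem' r := by simp

variable {J}

theorem pt_comp_mk {P : Ideal A} {B : Type u} [CommRing B] [Algebra R B] (π : A →ₐ[R] B)
    (hπ : P ≤ RingHom.ker π.toRingHom) (hJP : J ≤ P) (x : sp R A ⟶ G)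
    (hx : pt (Ideal.Quotient.mkₐ R J) ≫ x = 1) : pt π ≫ x = 1 := by
  have e : π = (Ideal.Quotient.liftₐ J π fun a ha => hπ (hJP ha)).comp (Ideal.Quotient.mkₐ R J) :=
    AlgHom.ext fun a => rfl
  rw [e, pt_comp, Category.assoc, hx, MonObj.comp_one]

variable (V : Chart R G) {P : Ideal A}

/-- A commutator with a point central modulo `P` is the unit modulo the extension of `P`. -/
theorem sub_mem_map {C : Type u} [CommRing C] [Algebra R C] (Δ : A →ₐ[R] C) (g : sp R A ⟶ G) (x' : sp R C ⟶ G)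
    (hg : ∀ (B : Type u) [CommRing B] [Algebra R B] (π : A →ₐ[R] B), P ≤ RingHom.ker π.toRingHom →
      ∀ z : sp R B ⟶ G, (pt π ≫ g) * z = z * (pt π ≫ g))
    (Y : V.ring →ₐ[R] C) (hY : pt Y ≫ V.hom = (pt Δ ≫ g) * x' * (pt Δ ≫ g)⁻¹ * x'⁻¹) (b : V.ring) :
    Y b - V.eps C b ∈ P.map Δ.toRingHom := by
  let π : C →ₐ[R] C ⧸ P.map Δ.toRingHom := Ideal.Quotient.mkₐ R _
  have hPQ : P ≤ RingHom.ker (π.comp Δ).toRingHom := fun a ha =>
    Ideal.Quotient.eq_zero_iff_mem.2 (Ideal.mem_map_of_mem Δ.toRingHom ha)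
  have h1 : π.comp Y = V.eps _ := V.hom_injective (by
    rw [pt_comp, Category.assoc, hY, V.pt_eps, MonObj.comp_mul, MonObj.comp_mul, MonObj.comp_mul, GrpObj.comp_inv,
      GrpObj.comp_inv, ← Category.assoc, ← pt_comp, hg _ _ hPQ]
    simp)
  rw [← Ideal.Quotient.eq]
  exact (DFunLike.congr_fun h1 b).trans (DFunLike.congr_fun (V.comp_eps π) b).symm

include V in
/-- A point which is central modulo `P` commutes with the points congruent to the unit modulo `J`, when `P * J = 0`. -/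
theorem comm_of_fibre (hJP : J ≤ P) (hPJ : P * J = ⊥) (g x : sp R A ⟶ G)
    (hx : pt (Ideal.Quotient.mkₐ R J) ≫ x = 1)
    (hg : ∀ (B : Type u) [CommRing B] [Algebra R B] (π : A →ₐ[R] B), P ≤ RingHom.ker π.toRingHom →
      ∀ z : sp R B ⟶ G, (pt π ≫ g) * z = z * (pt π ≫ g)) :
    g * x = x * g := by
  have hJ2 : J ^ 2 = ⊥ := le_bot_iff.1 (by rw [pow_two, ← hPJ]; exact Ideal.mul_mono_left hJP)
  have hker : RingHom.ker (Ideal.Quotient.mkₐ R J).toRingHom = J := Ideal.Quotient.mkₐ_ker R J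
  obtain ⟨L, hL, hLJ⟩ := V.exists_factor (Ideal.Quotient.mkₐ R J) Ideal.Quotient.mk_surjective
    ⟨2, by rw [hker, hJ2]; rfl⟩ x hx
  let C := pairs (R := R) J
  let s : C →ₐ[R] A := (AlgHom.fst R A A).comp C.val
  let t : C →ₐ[R] A := (AlgHom.snd R A A).comp C.val
  let Δ : A →ₐ[R] C := ((AlgHom.id R A).prod (AlgHom.id R A)).codRestrict C fun a => by
    show a - a ∈ J
    simp
  let X : V.ring →ₐ[R] C := ((V.eps A).prod L).codRestrict C fun b => by
    show V.eps A b - L b ∈ J
    rw [← Ideal.Quotient.eq]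
    exact ((DFunLike.congr_fun hLJ b).trans (DFunLike.congr_fun (V.comp_eps (Ideal.Quotient.mkₐ R J)) b).symm).symm
  let x' : sp R C ⟶ G := pt X ≫ V.hom
  let g' : sp R C ⟶ G := pt Δ ≫ g
  have hsX : pt s ≫ x' = 1 := by
    rw [← Category.assoc, ← pt_comp, show s.comp X = V.eps A from AlgHom.ext fun b => rfl, V.pt_eps]
  have htX : pt t ≫ x' = x := by
    rw [← Category.assoc, ← pt_comp, show t.comp X = L from AlgHom.ext fun b => rfl, hL]
  have hsg : pt s ≫ g' = g := by
    rw [← Category.assoc, ← pt_comp, show s.comp Δ = AlgHom.id R A from AlgHom.ext fun b => rfl]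
    exact (congrArg (· ≫ g) (show pt (AlgHom.id R A) = 𝟙 _ by ext1; simp; rfl)).trans (Category.id_comp g)
  have htg : pt t ≫ g' = g := by
    rw [← Category.assoc, ← pt_comp, show t.comp Δ = AlgHom.id R A from AlgHom.ext fun b => rfl]
    exact (congrArg (· ≫ g) (show pt (AlgHom.id R A) = 𝟙 _ by ext1; simp; rfl)).trans (Category.id_comp g)
  let y := g' * x' * g'⁻¹ * x'⁻¹
  have hs : pt s ≫ y = 1 := by
    simp only [y, MonObj.comp_mul, GrpObj.comp_inv, hsX, hsg]
    simp
  have hker' : IsNilpotent (RingHom.ker s.toRingHom) := by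
    refine ⟨2, le_bot_iff.1 ?_⟩
    rw [pow_two, Ideal.mul_le]
    intro v hv w hw
    have hv₁ : v.1.1 = 0 := hv
    have hw₁ : w.1.1 = 0 := hw
    have hv₂ : v.1.2 ∈ J := by simpa [hv₁] using (show v.1.1 - v.1.2 ∈ J from v.2)
    have hw₂ : w.1.2 ∈ J := by simpa [hw₁] using (show w.1.1 - w.1.2 ∈ J from w.2)
    have h0 := Ideal.mul_mem_mul hv₂ hw₂
    rw [← pow_two, hJ2, Submodule.mem_bot] at h0
    exact (Submodule.mem_bot _).2 (Subtype.ext (Prod.ext (by simp [hv₁]) h0))
  obtain ⟨Y, hY, hsY⟩ := V.exists_factor s (fun a => ⟨Δ a, rfl⟩) hker' y hs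
  let Q : Ideal C := P.map Δ.toRingHom
  have hdiag : ∀ v ∈ Q, v.1.1 = v.1.2 := by
    intro v hv
    induction hv using Submodule.span_induction with
    | mem z hz => obtain ⟨a, -, rfl⟩ := hz; rfl
    | zero => rfl
    | add a b _ _ ha hb => simp [ha, hb]
    | smul c z hzQ hz =>
      have hzP : z.1.1 ∈ P := by
        have : P.map Δ.toRingHom ≤ P.comap s.toRingHom := Ideal.map_le_iff_le_comap.2 fun a ha => ha
        exact this hzQ
      have h0 := Ideal.mul_mem_mul hzP (show c.1.1 - c.1.2 ∈ J from c.2)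
      rw [hPJ, Submodule.mem_bot] at h0
      show c.1.1 * z.1.1 = c.1.2 * z.1.2
      rw [← hz]
      linear_combination h0
  have hYe : Y = V.eps C := by
    refine AlgHom.ext fun b => ?_
    have h2 : Y b - V.eps C b ∈ Q := sub_mem_map V Δ g x' hg Y hY b
    have h3 := hdiag _ h2
    have h4 : (Y b).1.1 = (V.eps C b).1.1 :=
      (DFunLike.congr_fun hsY b).trans (DFunLike.congr_fun (V.comp_eps s) b).symm
    refine Subtype.ext (Prod.ext h4 ?_)
    simp only [AddSubgroupClass.coe_sub, Prod.fst_sub, Prod.snd_sub, h4, sub_self] at h3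
    exact sub_eq_zero.1 h3.symm
  have hy1 : y = 1 := hY.symm.trans ((congrArg (fun Z => pt Z ≫ V.hom) hYe).trans (V.pt_eps C))
  have ht : pt t ≫ y = 1 := (congrArg (pt t ≫ ·) hy1).trans (MonObj.comp_one _)
  simp only [y, MonObj.comp_mul, GrpObj.comp_inv, htX, htg] at ht
  rwa [mul_inv_eq_one, mul_inv_eq_iff_eq_mul] at ht

include V in
/-- The points congruent to the unit commute. -/
theorem comm_kernel (hJP : J ≤ P) (hPJ : P * J = ⊥) (x x' : sp R A ⟶ G)
    (hx : pt (Ideal.Quotient.mkₐ R J) ≫ x = 1) (hx' : pt (Ideal.Quotient.mkₐ R J) ≫ x' = 1) : x * x' = x' * x :=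
  comm_of_fibre V hJP hPJ x x' hx' fun B _ _ π hπ z => by rw [pt_comp_mk π hπ hJP x hx, one_mul, mul_one]

/-- The product of two points congruent to the unit is their sum. -/
theorem chart_mul (hJ2 : J ^ 2 = ⊥) (x x' : sp R A ⟶ G) (L L' : V.ring →ₐ[R] A) (hL : pt L ≫ V.hom = x)
    (hL' : pt L' ≫ V.hom = x') (hJL : ∀ b, V.eps A b - L b ∈ J) (hJL' : ∀ b, V.eps A b - L' b ∈ J) :
    ∃ L'' : V.ring →ₐ[R] A, pt L'' ≫ V.hom = x * x' ∧ ∀ b, L'' b = L b + L' b - V.eps A b := by
  let C := triples (R := R) J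
  have hJJ : ∀ a b : A, a ∈ J → b ∈ J → a * b = 0 := fun a b ha hb => by
    have := Ideal.mul_mem_mul ha hb
    rwa [← pow_two, hJ2, Submodule.mem_bot] at this
  let s : C →ₐ[R] A := (AlgHom.fst R A (A × A)).comp C.val
  let t₁ : C →ₐ[R] A := (AlgHom.fst R A A).comp ((AlgHom.snd R A (A × A)).comp C.val)
  let t₂ : C →ₐ[R] A := (AlgHom.snd R A A).comp ((AlgHom.snd R A (A × A)).comp C.val)
  let σ : C →ₐ[R] A := AlgHom.ofLinearMap (t₁.toLinearMap + t₂.toLinearMap - s.toLinearMap)
    (by show t₁ 1 + t₂ 1 - s 1 = 1; simp) (fun v w => by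
      show t₁ (v * w) + t₂ (v * w) - s (v * w) = (t₁ v + t₂ v - s v) * (t₁ w + t₂ w - s w)
      simp only [map_mul]
      have a1 := hJJ _ _ (show s v - t₁ v ∈ J from v.2.1) (show s w - t₂ w ∈ J from w.2.2)
      have a2 := hJJ _ _ (show s v - t₂ v ∈ J from v.2.2) (show s w - t₁ w ∈ J from w.2.1)
      linear_combination -a1 - a2)
  let X₁ : V.ring →ₐ[R] C := ((V.eps A).prod (L.prod (V.eps A))).codRestrict C fun b => ⟨hJL b, by simp⟩
  let X₂ : V.ring →ₐ[R] C := ((V.eps A).prod ((V.eps A).prod L')).codRestrict C fun b => ⟨by simp, hJL' b⟩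
  let z₁ := pt X₁ ≫ V.hom
  let z₂ := pt X₂ ≫ V.hom
  have hker : IsNilpotent (RingHom.ker s.toRingHom) := by
    refine ⟨2, le_bot_iff.1 ?_⟩
    rw [pow_two, Ideal.mul_le]
    intro v hv w hw
    have hv₁ : v.1.1 = 0 := hv
    have hw₁ : w.1.1 = 0 := hw
    have a1 : v.1.2.1 ∈ J := by simpa [hv₁] using v.2.1
    have a2 : w.1.2.1 ∈ J := by simpa [hw₁] using w.2.1
    have b1 : v.1.2.2 ∈ J := by simpa [hv₁] using v.2.2
    have b2 : w.1.2.2 ∈ J := by simpa [hw₁] using w.2.2
    exact (Submodule.mem_bot _).2 (Subtype.ext (Prod.ext (by simp [hv₁])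
      (Prod.ext (hJJ _ _ a1 a2) (hJJ _ _ b1 b2))))
  have e₁ : pt s ≫ (z₁ * z₂) = 1 := by
    rw [MonObj.comp_mul, ← Category.assoc, ← Category.assoc, ← pt_comp, ← pt_comp,
      show s.comp X₁ = V.eps A from AlgHom.ext fun b => rfl, show s.comp X₂ = V.eps A from AlgHom.ext fun b => rfl,
      V.pt_eps, one_mul]
  obtain ⟨Y, hY, hsY⟩ := V.exists_factor s (fun a => ⟨⟨(a, a, a), by show a - a ∈ J; simp, by show a - a ∈ J; simp⟩,
    rfl⟩) hker _ e₁
  have hY₁ : t₁.comp Y = L := V.hom_injective (by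
    rw [pt_comp, Category.assoc, hY, MonObj.comp_mul, ← Category.assoc, ← Category.assoc, ← pt_comp, ← pt_comp,
      show t₁.comp X₁ = L from AlgHom.ext fun b => rfl, show t₁.comp X₂ = V.eps A from AlgHom.ext fun b => rfl,
      V.pt_eps, mul_one])
  have hY₂ : t₂.comp Y = L' := V.hom_injective (by
    rw [pt_comp, Category.assoc, hY, MonObj.comp_mul, ← Category.assoc, ← Category.assoc, ← pt_comp, ← pt_comp,
      show t₂.comp X₁ = V.eps A from AlgHom.ext fun b => rfl, show t₂.comp X₂ = L' from AlgHom.ext fun b => rfl,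
      V.pt_eps, one_mul])
  refine ⟨σ.comp Y, ?_, fun b => ?_⟩
  · rw [pt_comp, Category.assoc, hY, MonObj.comp_mul, ← Category.assoc, ← Category.assoc, ← pt_comp, ← pt_comp,
      show σ.comp X₁ = L from AlgHom.ext fun b => by show L b + V.eps A b - V.eps A b = L b; simp,
      show σ.comp X₂ = L' from AlgHom.ext fun b => by show V.eps A b + L' b - V.eps A b = L' b; simp, hL, hL']
  · show t₁ (Y b) + t₂ (Y b) - s (Y b) = _
    rw [show t₁ (Y b) = L b from DFunLike.congr_fun hY₁ b, show t₂ (Y b) = L' b from DFunLike.congr_fun hY₂ b,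
      show s (Y b) = V.eps A b from DFunLike.congr_fun hsY b]

end Groth.Agent.EqNhd
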