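import Groth.Agent.EqNhdLib.Pts

/-!
Rigidity of point homomorphisms with central reduction.
-/

set_option autoImplicit false
set_option backward.isDefEq.respectTransparency false

noncomputable section

universe u

open CategoryTheory CategoryTheory.Limits MonoidalCategory CartesianMonoidalCategory AlgebraicGeometry CoactBr
open scoped MonObj TensorProduct

namespace Groth.Agent.EqNhd

open Groth.Agent.FreeAct (DA bas bas_apply)

attribute [local instance] CoactBr.braidedAlgSpecOf

variable {R : Type u} [CommRing R] {N : Type} [AddCommGroup N] {G : Over (Spec (CommRingCat.of R))} [GrpObj G]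

/-- A natural family of homomorphisms from characters to points. -/
structure PtHom (R : Type u) [CommRing R] (N : Type) [AddCommGroup N] (G : Over (Spec (CommRingCat.of R)))
    [GrpObj G] where
  /-- the homomorphisms -/
  ev : ∀ (A : Type u) [CommRing A] [Algebra R A], (Multiplicative N →* A) → (sp R A ⟶ G)
  ev_mul : ∀ (A : Type u) [CommRing A] [Algebra R A] (χ χ' : Multiplicative N →* A),
    ev A (χ * χ') = ev A χ * ev A χ'
  ev_comp : ∀ {A B : Type u} [CommRing A] [Algebra R A] [CommRing B] [Algebra R B] (L : A →ₐ[R] B)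
    (χ : Multiplicative N →* A), pt L ≫ ev A χ = ev B (L.toRingHom.toMonoidHom.comp χ)

namespace PtHom

/-- Restriction along a map of character groups. -/
def restrict {N' : Type} [AddCommGroup N'] (a : PtHom R N G) (φ : Multiplicative N →* Multiplicative N') :
    PtHom R N' G where
  ev A _ _ χ := a.ev A (χ.comp φ)
  ev_mul A _ _ χ χ' := by rw [MonoidHom.mul_comp, a.ev_mul]
  ev_comp L χ := by rw [a.ev_comp, MonoidHom.comp_assoc]

theorem mul_inv_natural {A B : Type u} [CommRing A] [Algebra R A] [CommRing B] [Algebra R B] (a b : PtHom R N G)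
    (L : A →ₐ[R] B) (χ : Multiplicative N →* A) :
    pt L ≫ (a.ev A χ * (b.ev A χ)⁻¹) =
      a.ev B (L.toRingHom.toMonoidHom.comp χ) * (b.ev B (L.toRingHom.toMonoidHom.comp χ))⁻¹ := by
  rw [MonObj.comp_mul, GrpObj.comp_inv, a.ev_comp, b.ev_comp]

end PtHom

variable {R' : Type u} [CommRing R']

/-- The coordinate at a monoid element. -/
def cf {X : Type} (x : X) : MonoidAlgebra R' X →ₗ[R'] R' := (MonoidAlgebra.basis X R').coord x

theorem cf_single {X : Type} [DecidableEq X] (x y : X) :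
    cf (R' := R') x (MonoidAlgebra.single y 1) = if y = x then 1 else 0 := by
  rw [cf, Module.Basis.coord_apply, ← MonoidAlgebra.basis_apply, Module.Basis.repr_self, Finsupp.single_apply]

theorem ext_cf {X : Type} {a b : MonoidAlgebra R' X} (h : ∀ x, cf x a = cf x b) : a = b :=
  (MonoidAlgebra.basis X R').ext_elem h

/-- A primitive element of a monoid algebra of a group vanishes. -/
theorem eq_zero_of_primitive {X : Type} [CommGroup X] (E : MonoidAlgebra R' X)
    (h : MonoidAlgebra.mapDomainAlgHom R' R' ((MonoidHom.id X).prod (MonoidHom.id X)) E =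
      MonoidAlgebra.mapDomainAlgHom R' R' (MonoidHom.inl X X) E +
        MonoidAlgebra.mapDomainAlgHom R' R' (MonoidHom.inr X X) E) : E = 0 := by
  classical
  have h₁ : ∀ (f : X →* X × X) (x : X) (z : X × X), (∀ y, f y = z ↔ y = x) → ∀ a : MonoidAlgebra R' X,
      cf z (MonoidAlgebra.mapDomainAlgHom R' R' f a) = cf x a := by
    intro f x z hf a
    refine DFunLike.congr_fun (f := (cf z).comp (MonoidAlgebra.mapDomainAlgHom R' R' f).toLinearMap) (g := cf x)
      ((MonoidAlgebra.basis X R').ext fun y => ?_) a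
    simp [cf_single, hf]
  have h₀ : ∀ (f : X →* X × X) (z : X × X), (∀ y, f y ≠ z) → ∀ a : MonoidAlgebra R' X,
      cf z (MonoidAlgebra.mapDomainAlgHom R' R' f a) = 0 := by
    intro f z hf a
    refine DFunLike.congr_fun (f := (cf z).comp (MonoidAlgebra.mapDomainAlgHom R' R' f).toLinearMap)
      (g := (0 : MonoidAlgebra R' X →ₗ[R'] R')) ((MonoidAlgebra.basis X R').ext fun y => ?_) a
    simp [cf_single, hf]
  refine ext_cf fun x => ?_
  rw [map_zero]
  have h2 := congrArg (cf (R' := R') (x, x)) h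
  rw [map_add, h₁ _ x (x, x) (fun y => by simp)] at h2
  by_cases hx : x = 1
  · subst hx
    rw [h₁ _ 1 (1, 1) (fun y => by simp), h₁ _ 1 (1, 1) (fun y => by simp)] at h2
    linear_combination h2 * (-1 : R')
  · rw [h₀ _ (x, x) (fun y => by simp [Ne.symm hx]), h₀ _ (x, x) (fun y => by simp [Ne.symm hx]), add_zero] at h2
    exact h2

variable (V : Chart R G) (a b : PtHom R N G) {J P : Ideal R}

include V in
/-- Two homomorphisms equal modulo `J`, the first central modulo `P ⊇ J`, are equal modulo `P * J`. -/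
theorem eq_of_sq (hJP : J ≤ P)
    (hcent : ∀ (A : Type u) [CommRing A] [Algebra R A], P ≤ RingHom.ker (algebraMap R A) →
      ∀ (χ : Multiplicative N →* A) (z : sp R A ⟶ G), a.ev A χ * z = z * a.ev A χ)
    (heq : ∀ (A : Type u) [CommRing A] [Algebra R A], J ≤ RingHom.ker (algebraMap R A) →
      ∀ χ : Multiplicative N →* A, a.ev A χ = b.ev A χ)
    (A : Type u) [CommRing A] [Algebra R A] (hA : P * J ≤ RingHom.ker (algebraMap R A))
    (χ : Multiplicative N →* A) : a.ev A χ = b.ev A χ := by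
  -- the difference is the unit modulo the ideal
  have hmod : ∀ (B : Type u) [CommRing B] [Algebra R B] (ψ : Multiplicative N →* B),
      pt (Ideal.Quotient.mkₐ R (J.map (algebraMap R B))) ≫ (a.ev B ψ * (b.ev B ψ)⁻¹) = 1 := by
    intro B _ _ ψ
    rw [PtHom.mul_inv_natural, mul_inv_eq_one]
    exact heq (B ⧸ J.map (algebraMap R B))
      (fun r hr => Ideal.Quotient.eq_zero_iff_mem.2 (Ideal.mem_map_of_mem (algebraMap R B) hr)) _
  have hkey : ∀ (B : Type u) [CommRing B] [Algebra R B], P * J ≤ RingHom.ker (algebraMap R B) →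
      ∀ ψ : Multiplicative N →* B, ∃ L : V.ring →ₐ[R] B, pt L ≫ V.hom = a.ev B ψ * (b.ev B ψ)⁻¹ ∧
        ∀ x, V.eps B x - L x ∈ J.map (algebraMap R B) := by
    intro B _ _ hB ψ
    have hJ2 : (J.map (algebraMap R B)) ^ 2 = ⊥ := by
      rw [← Ideal.map_pow, pow_two, eq_bot_iff, Ideal.map_le_iff_le_comap]
      exact (Ideal.mul_mono_left hJP).trans hB
    have hker : RingHom.ker (Ideal.Quotient.mkₐ R (J.map (algebraMap R B))).toRingHom = J.map (algebraMap R B) :=
      Ideal.Quotient.mkₐ_ker R _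
    obtain ⟨L, hL, hL'⟩ := V.exists_factor (Ideal.Quotient.mkₐ R (J.map (algebraMap R B))) Ideal.Quotient.mk_surjective
      ⟨2, by rw [hker, hJ2]; rfl⟩ _ (hmod B ψ)
    refine ⟨L, hL, fun x => ?_⟩
    rw [← Ideal.Quotient.eq]
    exact ((DFunLike.congr_fun hL' x).trans
      (DFunLike.congr_fun (V.comp_eps (Ideal.Quotient.mkₐ R (J.map (algebraMap R B)))) x).symm).symm
  have hdmul : ∀ (B : Type u) [CommRing B] [Algebra R B], P * J ≤ RingHom.ker (algebraMap R B) →
      ∀ ψ ψ' : Multiplicative N →* B,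
        a.ev B (ψ * ψ') * (b.ev B (ψ * ψ'))⁻¹ =
          (a.ev B ψ' * (b.ev B ψ')⁻¹) * (a.ev B ψ * (b.ev B ψ)⁻¹) := by
    intro B _ _ hB ψ ψ'
    have hc : a.ev B ψ * (a.ev B ψ' * (b.ev B ψ')⁻¹) = (a.ev B ψ' * (b.ev B ψ')⁻¹) * a.ev B ψ := by
      refine comm_of_fibre V (J := J.map (algebraMap R B)) (P := P.map (algebraMap R B)) (Ideal.map_mono hJP) ?_
        _ _ (hmod B ψ') ?_
      · rw [← Ideal.map_mul, eq_bot_iff, Ideal.map_le_iff_le_comap]
        exact hB
      · intro B' _ _ π hπ z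
        rw [a.ev_comp]
        refine hcent B' (fun r hr => ?_) _ z
        rw [RingHom.mem_ker, ← π.commutes]
        exact hπ (Ideal.mem_map_of_mem _ hr)
    rw [a.ev_mul, b.ev_mul, mul_inv_rev, ← mul_assoc (a.ev B ψ' * _) (a.ev B ψ), ← hc]
    simp only [mul_assoc]
  -- reduction to the universal character
  let R₀ : Type u := R ⧸ (P * J)
  let B₁ : Type u := MonoidAlgebra R₀ (Multiplicative N)
  let B₂ : Type u := MonoidAlgebra R₀ (Multiplicative N × Multiplicative N)
  have hB₁ : P * J ≤ RingHom.ker (algebraMap R B₁) := fun r hr => by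
    rw [RingHom.mem_ker, IsScalarTower.algebraMap_apply R R₀ B₁,
      show algebraMap R R₀ r = 0 from Ideal.Quotient.eq_zero_iff_mem.2 hr, map_zero]
  have hB₂ : P * J ≤ RingHom.ker (algebraMap R B₂) := fun r hr => by
    rw [RingHom.mem_ker, IsScalarTower.algebraMap_apply R R₀ B₂,
      show algebraMap R R₀ r = 0 from Ideal.Quotient.eq_zero_iff_mem.2 hr, map_zero]
  let u₁ : Multiplicative N →* B₁ := MonoidAlgebra.of R₀ (Multiplicative N)
  obtain ⟨L, hL, hLJ⟩ := hkey B₁ hB₁ u₁
  let f : (Multiplicative N →* Multiplicative N × Multiplicative N) → (B₁ →ₐ[R] B₂) := fun φ =>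
    (MonoidAlgebra.mapDomainAlgHom R₀ R₀ φ).restrictScalars R
  have hf : ∀ φ, pt ((f φ).comp L) ≫ V.hom = a.ev B₂ ((MonoidAlgebra.of R₀ _).comp φ) *
      (b.ev B₂ ((MonoidAlgebra.of R₀ _).comp φ))⁻¹ := fun φ => by
    have e : (f φ).toRingHom.toMonoidHom.comp u₁ = (MonoidAlgebra.of R₀ _).comp φ :=
      MonoidHom.ext fun m => by
        show MonoidAlgebra.mapDomainAlgHom R₀ R₀ φ (MonoidAlgebra.single m (1 : R₀)) = MonoidAlgebra.single (φ m) 1
        simp
    rw [pt_comp, Category.assoc, hL, PtHom.mul_inv_natural, e]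
  have hprod : ((MonoidAlgebra.of R₀ _).comp ((MonoidHom.id (Multiplicative N)).prod (MonoidHom.id _)) :
      Multiplicative N →* B₂) = (MonoidAlgebra.of R₀ _).comp (MonoidHom.inl _ _) *
        (MonoidAlgebra.of R₀ _).comp (MonoidHom.inr _ _) := MonoidHom.ext fun m => by
    simp [MonoidAlgebra.single_mul_single]
  let J₂ := J.map (algebraMap R B₂)
  have hmemf : ∀ φ x, V.eps B₂ x - f φ (L x) ∈ J₂ := fun φ x => by
    have h1 := Ideal.mem_map_of_mem (f φ).toRingHom (hLJ x)
    rw [Ideal.map_map, show (f φ).toRingHom.comp (algebraMap R B₁) = algebraMap R B₂ from (f φ).comp_algebraMap] at h1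
    have he : f φ (V.eps B₁ x) = V.eps B₂ x := DFunLike.congr_fun (V.comp_eps (f φ)) x
    simp only [AlgHom.toRingHom_eq_coe, RingHom.coe_coe, map_sub, he] at h1
    exact h1
  have hJ₂ : J₂ ^ 2 = ⊥ := by
    rw [← Ideal.map_pow, pow_two, eq_bot_iff, Ideal.map_le_iff_le_comap]
    exact (Ideal.mul_mono_left hJP).trans hB₂
  obtain ⟨L'', hL'', hsum⟩ := chart_mul V hJ₂ _ _ ((f (MonoidHom.inr _ _)).comp L) ((f (MonoidHom.inl _ _)).comp L)
    (hf _) (hf _) (hmemf _) (hmemf _)
  have hΔ : (f ((MonoidHom.id _).prod (MonoidHom.id _))).comp L = L'' := V.hom_injective (by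
    rw [hf, hprod, hdmul B₂ hB₂, hL''])
  have hE : ∀ x, L x = V.eps B₁ x := fun x => by
    refine sub_eq_zero.1 (eq_zero_of_primitive _ ?_)
    have h1 : f ((MonoidHom.id _).prod (MonoidHom.id _)) (L x) = L'' x := DFunLike.congr_fun hΔ x
    have he : ∀ φ, f φ (V.eps B₁ x) = V.eps B₂ x := fun φ => DFunLike.congr_fun (V.comp_eps (f φ)) x
    show f _ (L x - V.eps B₁ x) = f _ (L x - V.eps B₁ x) + f _ (L x - V.eps B₁ x)
    rw [map_sub, map_sub, map_sub, h1, hsum, he, he, he]
    show f _ (L x) + f _ (L x) - _ - _ = _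
    abel
  have h1 : a.ev B₁ u₁ = b.ev B₁ u₁ := by
    rw [← mul_inv_eq_one, ← hL, show L = V.eps B₁ from AlgHom.ext hE, V.pt_eps]
  -- an arbitrary character comes from the universal one
  let g : R₀ →ₐ[R] A := Ideal.Quotient.liftₐ (P * J) (Algebra.ofId R A) hA
  letI : Algebra R₀ A := g.toRingHom.toAlgebra
  haveI : IsScalarTower R R₀ A := IsScalarTower.of_algebraMap_eq fun r => (g.commutes r).symm
  let l : B₁ →ₐ[R] A := (MonoidAlgebra.lift R₀ A (Multiplicative N) χ).restrictScalars R
  have e : l.toRingHom.toMonoidHom.comp u₁ = χ := MonoidHom.ext fun m => by 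
    show MonoidAlgebra.lift R₀ A (Multiplicative N) χ (MonoidAlgebra.single m (1 : R₀)) = χ m
    simp
  rw [← e, ← a.ev_comp, ← b.ev_comp, h1]

end Groth.Agent.EqNhd
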